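import Groth.Agent.RootDat.Basic

/-!
Reduced crystallographic root pairings with a base, over any domain of characteristic zero.
-/

set_option autoImplicit false

namespace Groth.Agent.RootDat

open RootPairing Set Function

variable {ι R M N : Type*} [CommRing R] [CharZero R] [IsDomain R] [AddCommGroup M] [Module R M]
  [AddCommGroup N] [Module R N] {P : RootPairing ι R M N} (b : P.Base)

lemma height_neg (i : ι) : b.height (neg P i) = -b.height i :=
  b.height_reflectionPerm_self i

lemma isPos_neg_iff (i : ι) : b.IsPos (neg P i) ↔ ¬ b.IsPos i := by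
  rw [Base.isPos_iff, Base.isPos_iff, height_neg]
  have := b.height_ne_zero i
  omega

lemma height_lin {i j k : ι} {a c : ℤ} (hk : P.root k = a • P.root i + c • P.root j) :
    b.height k = a * b.height i + c * b.height j := by
  obtain ⟨f, -, -, hf⟩ := b.exists_root_eq_sum_int i
  obtain ⟨g, -, -, hg⟩ := b.exists_root_eq_sum_int j
  have hfg : P.root k = ∑ l ∈ b.support, (a • f + c • g) l • P.root l := by
    rw [hk, hf, hg, Finset.smul_sum, Finset.smul_sum, ← Finset.sum_add_distrib]
    exact Finset.sum_congr rfl fun l _ => by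
      simp only [Pi.add_apply, Pi.smul_apply, smul_eq_mul, add_smul, mul_smul]
  rw [Base.height_eq_sum hf, Base.height_eq_sum hg, Base.height_eq_sum hfg, Finset.mul_sum,
    Finset.mul_sum, ← Finset.sum_add_distrib]
  exact Finset.sum_congr rfl fun l _ => rfl

variable [Finite ι] [P.IsCrystallographic] [P.IsReduced]

lemma baseWalls : Walls P (↑b.support : Set ι) {i | b.IsPos i} univ where
  pos _ hi := Base.isPos_of_mem_support hi
  good _ _ := trivial
  neg_iff := isPos_neg_iff b
  stable _ _ _ _ := trivial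
  step _ hi _ hk _ hne := Base.IsPos.reflectionPerm hk hi hne

lemma base_exists_conj (i : ι) :
    ∃ g ∈ reflClosure P (↑b.support : Set ι), ∃ j ∈ b.support, g • j = i := by
  refine b.induction_reflect (p := fun i => ∃ g ∈ reflClosure P (↑b.support : Set ι),
    ∃ j ∈ b.support, g • j = i) i ?_ ?_ ?_
  · rintro k ⟨g, hg, j, hj, rfl⟩
    refine ⟨g * Equiv.reflection P j, mul_mem hg (mem_reflClosure P hj), j, hj, ?_⟩
    rw [mul_smul, refl_smul_idx]
    exact smul_neg_idx P g j
  · exact fun j hj => ⟨1, one_mem _, j, hj, one_smul _ j⟩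
  · rintro k l ⟨g, hg, j, hj, rfl⟩ hl
    exact ⟨Equiv.reflection P l * g, mul_mem (mem_reflClosure P hl) hg, j, hj, mul_smul _ _ _⟩

lemma base_closure_eq : reflClosure P (↑b.support : Set ι) = P.weylGroup := by
  refine le_antisymm (reflClosure_le P _) ((Subgroup.closure_le _).mpr ?_)
  rintro _ ⟨k, rfl⟩
  obtain ⟨g, hg, j, hj, rfl⟩ := base_exists_conj b k
  simp only [← conj_reflection P g j]
  exact mul_mem (mul_mem hg (mem_reflClosure P hj)) (inv_mem hg)

lemma base_eq_one {g : P.Aut} (hg : g ∈ P.weylGroup)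
    (h : ∀ i ∈ b.support, b.IsPos (g • i)) : g = 1 :=
  (baseWalls b).eq_one (by rwa [base_closure_eq]) h

lemma isPos_smul_of_simple {g : P.Aut} {b' : P.Base}
    (h : ∀ i ∈ b.support, b'.IsPos (g • i)) {k : ι} (hk : b.IsPos k) : b'.IsPos (g • k) := by
  refine Base.IsPos.induction_on_add hk (p := fun k => b'.IsPos (g • k)) h ?_
  intro i j l hl hi hj
  exact Base.IsPos.add hi (h j hj) (by rw [smul_root, hl, smul_add, smul_root, smul_root])

lemma smul_support_subset {g : P.Aut} {b' : P.Base}
    (h : ∀ k, b.IsPos k ↔ b'.IsPos (g • k)) {i : ι} (hi : i ∈ b.support) :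
    g • i ∈ b'.support := by
  have hpos : b'.IsPos (g • i) := (h i).mp (Base.isPos_of_mem_support hi)
  obtain ⟨j, hj, hp⟩ := hpos.exists_mem_support_pos_pairingIn
  rw [P.zero_lt_pairingIn_iff'] at hp
  rcases eq_or_ne (g • i) j with e | hne
  · exact e ▸ hj
  exfalso
  obtain ⟨k, hk⟩ := P.root_sub_root_mem_of_pairingIn_pos hp hne
  have hk' : b'.IsPos k := Base.IsPos.sub hpos hj hk
  have h₁ : b.IsPos (g⁻¹ • k) := (h _).mpr (by rwa [smul_inv_smul])
  have h₂ : b.IsPos (g⁻¹ • j) :=
    (h _).mpr (by rw [smul_inv_smul]; exact Base.isPos_of_mem_support hj)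
  have := b.height_add (i := g⁻¹ • k) (j := g⁻¹ • j) (k := i)
    (by rw [smul_root, smul_root, ← smul_add, hk, sub_add_cancel, smul_root, inv_smul_smul])
  rw [Base.height_one_of_mem_support hi] at this
  rw [Base.isPos_iff] at h₁ h₂
  omega

/-- The Weyl group is transitive on bases. -/
lemma base_transitive (b' : P.Base) :
    ∃ g : P.Aut, g ∈ P.weylGroup ∧
      (fun i : ι => g • i) '' (b.support : Set ι) = (b'.support : Set ι) := by
  classical
  let m : P.Aut → ℕ := fun g => {k | b.IsPos k ∧ ¬ b'.IsPos (g • k)}.ncard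
  have hQ : (P.weylGroup : Set P.Aut).Nonempty := ⟨1, one_mem _⟩
  obtain ⟨g, hg, hmin⟩ : ∃ g ∈ (P.weylGroup : Set P.Aut), ∀ g' ∈ (P.weylGroup : Set P.Aut),
      m g ≤ m g' :=
    ⟨_, Function.argminOn_mem m _ hQ, fun g' hg' => Function.argminOn_le m _ hg'⟩
  have hsimple : ∀ i ∈ b.support, b'.IsPos (g • i) := by
    intro i hi
    by_contra hneg
    have hg' : g * Equiv.reflection P i ∈ P.weylGroup :=
      mul_mem hg (P.reflection_mem_weylGroup i)
    refine absurd (hmin _ hg') (not_le_of_gt ?_)
    have hsub : P.reflectionPerm i '' {k | b.IsPos k ∧ ¬ b'.IsPos ((g * Equiv.reflection P i) • k)} ⊆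
        {k | b.IsPos k ∧ ¬ b'.IsPos (g • k)} \ {i} := by
      rintro _ ⟨k, ⟨hk, hk'⟩, rfl⟩
      have hki : k ≠ i := by
        rintro rfl
        apply hk'
        rw [mul_smul, refl_smul_idx]
        show b'.IsPos (g • neg P k)
        rw [smul_neg_idx, isPos_neg_iff]
        exact hneg
      rw [mul_smul, refl_smul_idx] at hk'
      refine ⟨⟨Base.IsPos.reflectionPerm hk hi hki, hk'⟩, fun e => ?_⟩
      have e' : k = neg P i := by
        rw [← P.reflectionPerm_self i k, show P.reflectionPerm i k = i from e]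
      rw [e', isPos_neg_iff] at hk
      exact hk (Base.isPos_of_mem_support hi)
    have hiB : i ∈ {k | b.IsPos k ∧ ¬ b'.IsPos (g • k)} :=
      ⟨Base.isPos_of_mem_support hi, hneg⟩
    calc m (g * Equiv.reflection P i)
        = (P.reflectionPerm i '' {k | b.IsPos k ∧
            ¬ b'.IsPos ((g * Equiv.reflection P i) • k)}).ncard :=
          (Set.ncard_image_of_injective _ (P.reflectionPerm i).injective).symm
      _ ≤ ({k | b.IsPos k ∧ ¬ b'.IsPos (g • k)} \ {i}).ncard := Set.ncard_le_ncard hsub (toFinite _)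
      _ < m g := Set.ncard_diff_singleton_lt_of_mem hiB (toFinite _)
  have hiff : ∀ k, b.IsPos k ↔ b'.IsPos (g • k) := fun k => by
    refine ⟨isPos_smul_of_simple b hsimple, fun h => by_contra fun hk => ?_⟩
    have := isPos_smul_of_simple b hsimple ((isPos_neg_iff b k).mpr hk)
    rw [smul_neg_idx, isPos_neg_iff] at this
    exact this h
  refine ⟨g, hg, subset_antisymm ?_ fun j hj => ⟨g⁻¹ • j, ?_, smul_inv_smul g j⟩⟩
  · rintro _ ⟨i, hi, rfl⟩
    exact smul_support_subset b hiff hi
  · exact smul_support_subset b' (g := g⁻¹) (fun k => by rw [hiff, smul_inv_smul]) hj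

/-- A list of simple reflections of least length for a given element. -/
lemma base_min_word {g : P.Aut} (hg : g ∈ P.weylGroup) :
    ∃ l : List ι, (∀ a ∈ l, a ∈ (↑b.support : Set ι)) ∧ wprod P l = g ∧
      ∀ l' : List ι, (∀ a ∈ l', a ∈ (↑b.support : Set ι)) → wprod P l' = g →
        l.length ≤ l'.length :=
  exists_min_word P (by rwa [base_closure_eq])

end Groth.Agent.RootDat
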