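import Groth.Prelude.Def_W4sga3xxiRoot
import Mathlib.LinearAlgebra.RootSystem.BaseExists
import Mathlib.LinearAlgebra.RootSystem.WeylGroup
import Mathlib.LinearAlgebra.RootSystem.Finite.Nondegenerate
import Mathlib.Data.Set.Card

/-!
General facts about root pairings, their automorphisms, and abstract "walls" data, from which
the exchange property and simple transitivity are deduced.
-/

set_option autoImplicit false

namespace Groth.Agent.RootDat

open RootPairing Set Function

section General

variable {ι R M N : Type*} [CommRing R] [AddCommGroup M] [Module R M] [AddCommGroup N] [Module R N]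
  (P : RootPairing ι R M N)

/-- The index of the opposite root. -/
abbrev neg (i : ι) : ι := P.reflectionPerm i i

lemma root_neg (i : ι) : P.root (neg P i) = -P.root i := by
  rw [← P.reflectionPerm_root]
  simp [two_smul]

lemma coroot_neg (i : ι) : P.coroot (neg P i) = -P.coroot i := by
  rw [← P.reflectionPerm_coroot]
  simp [two_smul]

@[simp] lemma neg_neg (i : ι) : neg P (neg P i) = i :=
  P.root.injective (by rw [root_neg, root_neg, _root_.neg_neg])

lemma smul_root (g : P.Aut) (i : ι) : P.root (g • i) = g • P.root i :=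
  by exact RootPairing.Equiv.root_indexEquiv_eq_smul (i := i) (g := g)

lemma refl_smul_idx (i k : ι) : Equiv.reflection P i • k = P.reflectionPerm i k := rfl

lemma smul_neg_idx (g : P.Aut) (i : ι) : g • neg P i = neg P (g • i) := by
  apply P.root.injective
  rw [smul_root, root_neg, root_neg, smul_root, smul_neg]

lemma reflectionPerm_neg (i k : ι) :
    P.reflectionPerm i (neg P k) = neg P (P.reflectionPerm i k) :=
  smul_neg_idx P (Equiv.reflection P i) k

lemma aut_ext {g h : P.Aut} (H : ∀ m : M, g • m = h • m) : g = h :=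
  Equiv.weightHom_injective P (LinearEquiv.ext H)

lemma pair_smul (g : P.Aut) (x : M) (n : N) :
    P.toLinearMap (g • x) n = P.toLinearMap x (g.coweightMap n) :=
  LinearMap.congr_fun (RootPairing.Hom.weight_coweight_transpose_apply P P n g.toHom) x

lemma coweightMap_coroot (g : P.Aut) (i : ι) :
    g.coweightMap (P.coroot (g • i)) = P.coroot i := by
  show g.coweightMap (P.coroot (g.indexEquiv i)) = _
  have := congr_fun g.coroot_coweightMap (g.indexEquiv i)
  simpa using this

lemma coroot'_smul (g : P.Aut) (i : ι) (m : M) :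
    P.coroot' (g • i) (g • m) = P.coroot' i m := by
  simp only [LinearMap.flip_apply]
  rw [pair_smul, coweightMap_coroot]

lemma coroot'_smul' (g : P.Aut) (i : ι) (m : M) :
    P.coroot' i (g • m) = P.coroot' (g⁻¹ • i) m := by
  conv_lhs => rw [← smul_inv_smul g i]
  rw [coroot'_smul]

lemma pairing_smul (g : P.Aut) (i j : ι) : P.pairing (g • i) (g • j) = P.pairing i j := by
  have := coroot'_smul P g j (P.root i)
  rw [← smul_root] at this
  exact this

lemma conj_reflection (g : P.Aut) (i : ι) :
    g * Equiv.reflection P i * g⁻¹ = Equiv.reflection P (g • i) := by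
  apply aut_ext P
  intro m
  rw [mul_smul, mul_smul, Equiv.reflection_smul, Equiv.reflection_smul, reflection_apply,
    reflection_apply, smul_sub, smul_inv_smul, smul_comm, ← smul_root,
    coroot'_smul' P g⁻¹ i m, inv_inv]

lemma reflection_mul_self (i : ι) : Equiv.reflection P i * Equiv.reflection P i = 1 := by
  nth_rewrite 1 [← Equiv.reflection_inv P i]
  exact inv_mul_cancel _

lemma refl_eq_of (i j : ι) (h : ∀ m, P.reflection i m = P.reflection j m) :
    Equiv.reflection P i = Equiv.reflection P j :=
  aut_ext P (by simpa using h)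

lemma reflection_neg (i : ι) : Equiv.reflection P (neg P i) = Equiv.reflection P i := by
  refine refl_eq_of P _ _ fun m => ?_
  simp only [reflection_apply, root_neg, LinearMap.flip_apply, coroot_neg, map_neg, neg_smul,
    smul_neg, _root_.neg_neg]

lemma reflection_conj_smul (g : P.Aut) (i : ι) :
    g * Equiv.reflection P i = Equiv.reflection P (g • i) * g := by
  rw [← conj_reflection, inv_mul_cancel_right]

/-- The subgroup generated by the reflections in a set of indices. -/
noncomputable def reflClosure (D : Set ι) : Subgroup P.Aut :=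
  Subgroup.closure ((fun i : ι => Equiv.reflection P i) '' D)

lemma mem_reflClosure {D : Set ι} {i : ι} (hi : i ∈ D) :
    Equiv.reflection P i ∈ reflClosure P D :=
  Subgroup.subset_closure ⟨i, hi, rfl⟩

lemma reflClosure_le (D : Set ι) : reflClosure P D ≤ P.weylGroup :=
  (Subgroup.closure_le _).mpr (by rintro _ ⟨i, _, rfl⟩; exact P.reflection_mem_weylGroup i)

lemma reflClosure_mono {D D' : Set ι} (h : D ⊆ D') : reflClosure P D ≤ reflClosure P D' :=
  Subgroup.closure_mono (image_mono h)

/-- The product of the reflections in the members of a list. -/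
noncomputable def wprod (l : List ι) : P.Aut := (l.map fun a => Equiv.reflection P a).prod

@[simp] lemma wprod_nil : wprod P [] = 1 := rfl

@[simp] lemma wprod_cons (a : ι) (l : List ι) :
    wprod P (a :: l) = Equiv.reflection P a * wprod P l := by simp [wprod]

lemma wprod_append (l l' : List ι) : wprod P (l ++ l') = wprod P l * wprod P l' := by
  simp [wprod]

lemma wprod_inv (l : List ι) : (wprod P l)⁻¹ = wprod P l.reverse := by
  induction l with
  | nil => simp
  | cons a l ih =>
    rw [wprod_cons, mul_inv_rev, ih, List.reverse_cons, wprod_append, Equiv.reflection_inv]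
    simp only [wprod_cons, wprod_nil, mul_one]

lemma wprod_mem {D : Set ι} {l : List ι} (h : ∀ a ∈ l, a ∈ D) : wprod P l ∈ reflClosure P D := by
  induction l with
  | nil => exact one_mem _
  | cons a l ih =>
    rw [wprod_cons]
    exact mul_mem (mem_reflClosure P (h a (by simp))) (ih fun b hb => h b (by simp [hb]))

lemma exists_word {D : Set ι} {g : P.Aut} (hg : g ∈ reflClosure P D) :
    ∃ l : List ι, (∀ a ∈ l, a ∈ D) ∧ wprod P l = g := by
  induction hg using Subgroup.closure_induction with
  | mem x hx =>
    obtain ⟨i, hi, rfl⟩ := hx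
    exact ⟨[i], by simpa, by simp⟩
  | one => exact ⟨[], by simp, rfl⟩
  | mul x y _ _ ihx ihy =>
    obtain ⟨l, hl, rfl⟩ := ihx
    obtain ⟨l', hl', rfl⟩ := ihy
    exact ⟨l ++ l', by simpa [or_imp, forall_and] using ⟨hl, hl'⟩, wprod_append P l l'⟩
  | inv x _ ih =>
    obtain ⟨l, hl, rfl⟩ := ih
    exact ⟨l.reverse, by simpa using hl, (wprod_inv P l).symm⟩

lemma exists_min_word {D : Set ι} {g : P.Aut} (hg : g ∈ reflClosure P D) :
    ∃ l : List ι, (∀ a ∈ l, a ∈ D) ∧ wprod P l = g ∧
      ∀ l' : List ι, (∀ a ∈ l', a ∈ D) → wprod P l' = g → l.length ≤ l'.length := by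
  classical
  obtain ⟨l, hl, hlg⟩ := exists_word P hg
  have hex : ∃ n, ∃ l : List ι, (∀ a ∈ l, a ∈ D) ∧ wprod P l = g ∧ l.length = n :=
    ⟨_, l, hl, hlg, rfl⟩
  obtain ⟨l₀, h₀, h₁, h₂⟩ := Nat.find_spec hex
  exact ⟨l₀, h₀, h₁, fun l' a b => h₂ ▸ Nat.find_min' hex ⟨l', a, b, rfl⟩⟩

/-- What is needed of simple roots `D` and positive roots `S` among the "good" roots `G` for the
exchange property. -/
structure Walls (D S G : Set ι) : Prop where
  pos : D ⊆ S
  good : D ⊆ G
  neg_iff : ∀ i, neg P i ∈ S ↔ i ∉ S
  stable : ∀ i ∈ D, ∀ k ∈ G, P.reflectionPerm i k ∈ G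
  step : ∀ i ∈ D, ∀ k ∈ S, k ∈ G → k ≠ i → P.reflectionPerm i k ∈ S

namespace Walls

variable {P} {D S G : Set ι}

lemma smul_good (W : Walls P D S G) {g : P.Aut} (hg : g ∈ reflClosure P D) {k : ι} (hk : k ∈ G) :
    g • k ∈ G := by
  obtain ⟨l, hl, rfl⟩ := exists_word P hg
  clear hg
  induction l with
  | nil => simpa using hk
  | cons a l ih =>
    rw [wprod_cons, mul_smul, refl_smul_idx]
    exact W.stable a (hl a (by simp)) _ (ih fun b hb => hl b (by simp [hb]))

lemma step_eq (W : Walls P D S G) {i k : ι} (hi : i ∈ D) (hk : k ∈ S) (hkG : k ∈ G)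
    (h : P.reflectionPerm i k ∉ S) : k = i := by
  by_contra hne
  exact h (W.step i hi k hk hkG hne)

/-- The exchange property. -/
lemma exchange (W : Walls P D S G) (l : List ι) (hl : ∀ a ∈ l, a ∈ D) (i : ι) (hi : i ∈ D)
    (h : wprod P l • i ∉ S) :
    ∃ l' : List ι, (∀ a ∈ l', a ∈ D) ∧ l'.length + 1 = l.length ∧
      wprod P l = wprod P l' * Equiv.reflection P i := by
  induction l with
  | nil => exact absurd (W.pos hi) (by simpa using h)
  | cons a t ih =>
    have ha : a ∈ D := hl a (by simp)
    have ht : ∀ b ∈ t, b ∈ D := fun b hb => hl b (by simp [hb])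
    by_cases ht' : wprod P t • i ∈ S
    · refine ⟨t, ht, rfl, ?_⟩
      rw [wprod_cons, mul_smul, refl_smul_idx] at h
      have hβ : wprod P t • i = a :=
        W.step_eq ha ht' (W.smul_good (wprod_mem P ht) (W.good hi)) h
      rw [wprod_cons, reflection_conj_smul P (wprod P t) i, hβ]
    · obtain ⟨t', h₁, h₂, h₃⟩ := ih ht ht'
      refine ⟨a :: t', ?_, by simp [h₂], ?_⟩
      · simpa using ⟨ha, h₁⟩
      · rw [wprod_cons, wprod_cons, h₃, mul_assoc]

lemma last_neg (W : Walls P D S G) (l : List ι) (hl : ∀ a ∈ l, a ∈ D) (i : ι) (hi : i ∈ D)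
    (hmin : ∀ l' : List ι, (∀ a ∈ l', a ∈ D) → wprod P l' = wprod P (l ++ [i]) →
      (l ++ [i]).length ≤ l'.length) :
    wprod P l • i ∈ S ∧ wprod P (l ++ [i]) • i ∉ S := by
  have hpos : wprod P l • i ∈ S := by
    by_contra hneg
    obtain ⟨l', h₁, h₂, h₃⟩ := W.exchange l hl i hi hneg
    have := hmin l' h₁ (by rw [wprod_append, h₃, mul_assoc]; simp [reflection_mul_self P])
    simp at this
    omega
  refine ⟨hpos, ?_⟩
  rw [wprod_append, mul_smul]
  simp only [wprod_cons, wprod_nil, mul_one, refl_smul_idx]
  change wprod P l • neg P i ∉ S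
  rw [smul_neg_idx, W.neg_iff]
  simpa using hpos

/-- An element of the group generated by the simple reflections which keeps the simple roots
positive is trivial. -/
lemma eq_one (W : Walls P D S G) {g : P.Aut} (hg : g ∈ reflClosure P D)
    (h : ∀ i ∈ D, g • i ∈ S) : g = 1 := by
  obtain ⟨l, hl, rfl, hmin⟩ := exists_min_word P hg
  rcases l.eq_nil_or_concat with rfl | ⟨t, i, rfl⟩
  · rfl
  · exfalso
    have hi : i ∈ D := hl i (by simp)
    simp only [List.concat_eq_append] at hmin h hl
    exact (W.last_neg t (fun a ha => hl a (by simp [ha])) i hi hmin).2 (h i hi)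

/-- An element of the group generated by the simple reflections sending a simple root to a
negative one can be written with one letter less, followed by that reflection. -/
lemma exists_shorter (W : Walls P D S G) {g : P.Aut} (hg : g ∈ reflClosure P D) (hne : g ≠ 1) :
    ∃ i ∈ D, g • i ∉ S := by
  by_contra! h
  exact hne (W.eq_one hg h)

end Walls

end General

end Groth.Agent.RootDat
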