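import Groth.Agent.RootDat.Weyl

/-!
Root pairings over `ℤ`: proportional roots, coefficients, orthogonal components.
-/

set_option autoImplicit false

namespace Groth.Agent.RootDat

open RootPairing RootD Set Function

variable {ι M N : Type*} [AddCommGroup M] [AddCommGroup N] {P : RootPairing ι ℤ M N}

lemma support_single_le {D : Set ι} {i : ι} (hi : i ∈ D) (z : ℤ) :
    ↑(Finsupp.single i z).support ⊆ D := fun j hj => by
  have := Finsupp.support_single_subset hj
  simp only [Finset.mem_singleton] at this
  exact this ▸ hi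

lemma support_add_le {D : Set ι} {c d : ι →₀ ℤ} (hc : ↑c.support ⊆ D) (hd : ↑d.support ⊆ D) :
    ↑(c + d).support ⊆ D := by
  classical
  exact fun j hj => (Finset.mem_union.mp (Finsupp.support_add hj)).elim
    (fun h => hc h) fun h => hd h

/-- An element of a linearly independent set is not a sum of two roots in its monoid. -/
lemma root_ne_add {D : Set ι} (hli : LinearIndepOn ℤ P.root D) {i a b : ι} (hi : i ∈ D)
    (ha : P.root a ∈ natSpan P D) (hb : P.root b ∈ natSpan P D) :
    P.root i ≠ P.root a + P.root b := by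
  intro he
  obtain ⟨c, ⟨hc, hc'⟩, hcx⟩ := (natSpan_iff P).mp ha
  obtain ⟨d, ⟨hd, hd'⟩, hdx⟩ := (natSpan_iff P).mp hb
  have heq : c + d = Finsupp.single i 1 := coeff_unique P hli (support_add_le hc hd)
    (support_single_le hi 1) (by rw [map_add, hcx, hdx, ← he]; simp)
  have hpt : ∀ l, c l + d l = Finsupp.single i (1 : ℤ) l := fun l => DFunLike.congr_fun heq l
  rcases (show c i = 0 ∨ d i = 0 by
    have := hpt i; have := hc' i; have := hd' i; simp only [Finsupp.single_eq_same] at *
    omega) with h | h
  · refine P.ne_zero a ?_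
    have h0 : c = 0 := Finsupp.ext fun l => by
      by_cases hl : l = i
      · simp [hl, h]
      · have := hpt l; have := hc' l; have := hd' l
        simp only [Finsupp.single_eq_of_ne hl] at *
        simp only [Finsupp.coe_zero, Pi.zero_apply]; omega
    rw [← hcx, h0, map_zero]
  · refine P.ne_zero b ?_
    have h0 : d = 0 := Finsupp.ext fun l => by
      by_cases hl : l = i
      · simp [hl, h]
      · have := hpt l; have := hc' l; have := hd' l
        simp only [Finsupp.single_eq_of_ne hl] at *
        simp only [Finsupp.coe_zero, Pi.zero_apply]; omega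
    rw [← hdx, h0, map_zero]

/-- If a multiple of a combination lies in the span of part of a linearly independent set, the
other coefficients vanish. -/
lemma coeff_support {D A : Set ι} (hli : LinearIndepOn ℤ P.root D) (hA : A ⊆ D) {c : ι →₀ ℤ}
    (hc : ↑c.support ⊆ D) {n : ℤ} (hn : n ≠ 0)
    (h : n • Finsupp.linearCombination ℤ P.root c ∈ Submodule.span ℤ (P.root '' A)) :
    ↑c.support ⊆ A := by
  obtain ⟨d, hd, hdx⟩ := (Finsupp.mem_span_image_iff_linearCombination ℤ).mp h
  have hd' : ↑d.support ⊆ A := (Finsupp.mem_supported ℤ d).mp hd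
  have heq : n • c = d := coeff_unique P hli
    (fun j hj => hc (Finsupp.support_smul hj)) (fun j hj => hA (hd' hj))
    (by rw [map_smul, hdx])
  intro j hj
  refine hd' (Finsupp.mem_support_iff.mpr ?_)
  rw [← heq, Finsupp.smul_apply, smul_eq_mul]
  exact mul_ne_zero hn (Finsupp.mem_support_iff.mp hj)

lemma span_range_eq {D : Set ι} (hD : IsSimpleSys P D) :
    Submodule.span ℤ (range P.root) = Submodule.span ℤ (P.root '' D) := by
  refine le_antisymm (Submodule.span_le.mpr ?_) (Submodule.span_mono (image_subset_range _ _))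
  rintro _ ⟨i, rfl⟩
  exact (hD.mem_or_neg_mem i).elim (natSpan_le_span P D)
    fun h => neg_mem_iff.mp (natSpan_le_span P D h)

lemma exists_coeff {D : Set ι} (hD : IsSimpleSys P D) {x : M}
    (hx : x ∈ Submodule.span ℤ (range P.root)) :
    ∃ c : ι →₀ ℤ, ↑c.support ⊆ D ∧ Finsupp.linearCombination ℤ P.root c = x := by
  rw [span_range_eq hD] at hx
  obtain ⟨c, hc, hcx⟩ := (Finsupp.mem_span_image_iff_linearCombination ℤ).mp hx
  exact ⟨c, (Finsupp.mem_supported ℤ c).mp hc, hcx⟩

variable [Finite ι]

/-- A root proportional to an indivisible root is that root or twice it, up to sign. -/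
lemma prop_indiv {i j : ι} (hi : IsIndiv P i) {a b : ℤ} (hb : b ≠ 0)
    (h : b • P.root j = a • P.root i) :
    ∃ e : ℤ, (e = 1 ∨ e = -1 ∨ e = 2 ∨ e = -2) ∧ P.root j = e • P.root i ∧ a = b * e := by
  have := isTorsionFree_left P
  have hp : b * P.pairing j i = a * 2 := by
    have := congr_arg (P.coroot' i) h
    simpa [map_smul, coroot'_root] using this
  have hq : b * 2 = a * P.pairing i j := by
    have := congr_arg (P.coroot' j) h
    simpa [map_smul, coroot'_root] using this
  set p := P.pairing j i
  set q := P.pairing i j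
  have hpq : p * q = 4 := by
    apply mul_left_cancel₀ hb
    linear_combination q * hp - 2 * hq
  have hp4 : p.natAbs ≤ 4 := Nat.le_of_dvd (by norm_num)
    (by simpa using Int.natAbs_dvd_natAbs.mpr (Dvd.intro q hpq))
  have hp0 : p ≠ 0 := by intro e; rw [e, zero_mul] at hpq; norm_num at hpq
  have hval : p = 1 ∨ p = -1 ∨ p = 2 ∨ p = -2 ∨ p = 4 ∨ p = -4 := by
    rcases p.natAbs_eq with e | e <;> interval_cases hn : p.natAbs <;> rw [e] at hpq <;> simp only [CharP.cast_eq_zero, Nat.cast_ofNat, Nat.cast_one, neg_zero] at * <;> omega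
  have key : p • P.root i = (2 : ℤ) • P.root j := by
    apply zsmul_right_injective hb
    simp only
    rw [smul_smul, hp, mul_comm a, ← smul_smul, ← h, smul_comm]
  have fin : ∀ e : ℤ, p = 2 * e → P.root j = e • P.root i ∧ a = b * e := fun e he => by
    refine ⟨?_, by rw [he] at hp; linarith⟩
    apply zsmul_right_injective (two_ne_zero (α := ℤ))
    simp only
    rw [← key, he, smul_smul]
  rcases hval with e | e | e | e | e | e
  · exact absurd (by rw [← key, e, one_smul]) (hi j)
  · refine absurd ?_ (hi (neg P j))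
    rw [root_neg, smul_neg, ← key, e, neg_smul, one_smul, _root_.neg_neg]
  · exact ⟨1, by tauto, fin 1 (by omega)⟩
  · exact ⟨-1, by tauto, fin (-1) (by omega)⟩
  · exact ⟨2, by tauto, fin 2 (by omega)⟩
  · exact ⟨-2, by tauto, fin (-2) (by omega)⟩

/-- A root is proportional with positive factor: in a positive combination some root pairs
positively with it. -/
lemma exists_pairing_pos_sum {α : Type*} (s : Finset α) (a : α → ι) (m : α → ℕ) (k : ι) (c : ℕ)
    (hc : 0 < c) (hk : c • P.root k = ∑ l ∈ s, m l • P.root (a l)) :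
    ∃ l ∈ s, m l ≠ 0 ∧ 0 < P.pairing (a l) k := by
  by_contra! hcon
  have h := congr_arg (P.coroot' k) hk
  rw [map_nsmul, coroot'_root, pairing_same, map_sum, nsmul_eq_mul] at h
  have : ∑ l ∈ s, P.coroot' k (m l • P.root (a l)) ≤ 0 := Finset.sum_nonpos fun l hl => by
    rw [map_nsmul, coroot'_root, nsmul_eq_mul]
    by_cases hm : m l = 0
    · simp [hm]
    · exact mul_nonpos_of_nonneg_of_nonpos (by positivity) (hcon l hl hm)
  omega

/-- Being linked by a chain of non-orthogonal roots. -/
def Linked (P : RootPairing ι ℤ M N) (i j : ι) : Prop :=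
  Relation.ReflTransGen (fun a b : ι => ¬ P.IsOrthogonal a b) i j

lemma not_orth_neg (k : ι) : ¬ P.IsOrthogonal k (neg P k) := fun h => by
  have := h.1
  rw [pairing_neg_right, pairing_same] at this
  omega

lemma Linked.symm {i j : ι} (h : Linked P i j) : Linked P j i := by
  induction h with
  | refl => exact .refl
  | tail _ h₂ ih => exact Relation.ReflTransGen.head (fun e => h₂ e.symm) ih

lemma Linked.closed {i a b k : ι} (ha : Linked P i a) (hb : Linked P i b)
    (hk : P.root k = P.root a + P.root b) : Linked P i k := by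
  by_cases h : P.IsOrthogonal a k
  · refine hb.tail fun h' => ?_
    have h₁ : P.pairing a k = 0 := h.1
    have h₂ : P.pairing b k = 0 := h'.1
    have h₃ : P.pairing k k = P.pairing a k + P.pairing b k :=
      P.pairing_eq_add_of_root_eq_add hk
    rw [h₁, h₂, pairing_same] at h₃
    omega
  · exact ha.tail h

lemma Linked.compl_closed {i a b k : ι} (ha : ¬ Linked P i a) (hb : ¬ Linked P i b)
    (hk : P.root k = P.root a + P.root b) : ¬ Linked P i k := fun h => by
  have h₁ : P.IsOrthogonal k a := by_contra fun e => ha (h.tail e)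
  have h₂ : P.IsOrthogonal k b := by_contra fun e => hb (h.tail e)
  have h₃ : P.pairing k k = P.pairing a k + P.pairing b k :=
    P.pairing_eq_add_of_root_eq_add hk
  rw [h₁.2, h₂.2, pairing_same] at h₃
  omega

lemma linked_isClopen (i : ι) : IsClosedSub P {j : ι | Linked P i j} ∧
    IsSymmSub P {j : ι | Linked P i j} ∧ IsClosedSub P {j : ι | Linked P i j}ᶜ ∧
    IsSymmSub P {j : ι | Linked P i j}ᶜ :=
  ⟨fun _ _ _ ha hb hk => Linked.closed ha hb hk, fun k hk => hk.tail (not_orth_neg k),
    fun _ _ _ ha hb hk => Linked.compl_closed ha hb hk,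
    fun k hk h => hk (h.tail fun e => not_orth_neg k e.symm)⟩

/-- In a decomposition into two closed symmetric parts, different parts are orthogonal. -/
lemma mem_of_not_orth {R' : Set ι} (hc : IsClosedSub P R') (hs : IsSymmSub P R')
    (hc' : IsClosedSub P R'ᶜ) (hs' : IsSymmSub P R'ᶜ) {i j : ι} (hi : i ∈ R')
    (hij : ¬ P.IsOrthogonal i j) : j ∈ R' := by
  by_contra hj
  have hne : i ≠ j := fun e => hj (e ▸ hi)
  have hne' : i ≠ neg P j := fun e => hj (by
    have := hs hi
    rw [e] at this
    change neg P (neg P j) ∈ R' at this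
    rwa [neg_neg] at this)
  have key : ∀ j, j ∉ R' → i ≠ neg P j → P.root i ≠ P.root j → P.pairing i j < 0 → False := by
    intro j hj hne' _ hneg
    obtain ⟨k, hk⟩ := add_mem_range_root P hneg
      (fun e => hne' (P.root.injective (by rw [root_neg, e])))
    by_cases hkR : k ∈ R'
    · exact hj (hc hkR (hs hi) (by
        change P.root j = P.root k + P.root (neg P i)
        rw [root_neg, hk]; abel))
    · exact (hc' hkR (hs' hj) (by
        change P.root i = P.root k + P.root (neg P j)
        rw [root_neg, hk]; abel)) hi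
  rcases lt_trichotomy (P.pairing i j) 0 with h | h | h
  · exact key j hj hne' (fun e => hne (P.root.injective e)) h
  · exact hij ((isOrthogonal_iff P i j).mpr h)
  · refine key (neg P j) (hs' hj) (by simpa using hne) (fun e => hne' (P.root.injective e)) ?_
    rw [pairing_neg_right]
    omega

/-- Roots in the span of part of a simple system orthogonal to the rest are stable under all
simple reflections. -/
lemma inSpan_stable {D A : Set ι} (horth : ∀ i ∈ A, ∀ j ∈ D \ A, P.IsOrthogonal i j)
    {g : P.Aut} (hg : g ∈ reflClosure P D) {k : ι} (hk : k ∈ inSpan P A) :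
    g • k ∈ inSpan P A := by
  obtain ⟨l, hl, rfl⟩ := exists_word P hg
  clear hg
  induction l with
  | nil => simpa using hk
  | cons a l ih =>
    have ih := ih fun b hb => hl b (by simp [hb])
    rw [wprod_cons, mul_smul, refl_smul_idx]
    show P.root _ ∈ Submodule.span ℤ (P.root '' A)
    by_cases haA : a ∈ A
    · rw [root_reflectionPerm']
      exact sub_mem ih (Submodule.smul_mem _ _ (Submodule.subset_span (mem_image_of_mem _ haA)))
    · have hker : Submodule.span ℤ (P.root '' A) ≤ LinearMap.ker (P.coroot' a) := by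
        refine Submodule.span_le.mpr ?_
        rintro _ ⟨b, hb, rfl⟩
        exact (horth b hb a ⟨hl a (by simp), haA⟩).1
      rw [P.root_reflectionPerm, reflection_apply, LinearMap.mem_ker.mp (hker ih), zero_smul,
        sub_zero]
      exact ih

/-- An orthogonal splitting of a simple system splits the roots. -/
lemma inSpan_split {D A : Set ι} (hD : IsSimpleSys P D) (hA : A ⊆ D)
    (horth : ∀ i ∈ A, ∀ j ∈ D \ A, P.IsOrthogonal i j) (k : ι) :
    (k ∈ inSpan P A ∨ k ∈ inSpan P (D \ A)) ∧ ¬ (k ∈ inSpan P A ∧ k ∈ inSpan P (D \ A)) := by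
  refine ⟨?_, fun ⟨h₁, h₂⟩ => ?_⟩
  · obtain ⟨j, hj, hjk⟩ := exists_indiv P k
    have hj' : j ∈ inSpan P A ∨ j ∈ inSpan P (D \ A) := by
      obtain ⟨g, hg, i, hi, rfl⟩ := Simple.exists_conj hD hj
      by_cases hiA : i ∈ A
      · exact Or.inl (inSpan_stable horth hg
          (Submodule.subset_span (mem_image_of_mem _ hiA)))
      · refine Or.inr (inSpan_stable (fun a ha b hb => ?_) hg
          (Submodule.subset_span (mem_image_of_mem _ ⟨hi, hiA⟩)))
        exact (horth b (by_contra fun hbA => hb.2 ⟨hb.1, hbA⟩) a ha).symm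
    rcases hjk with rfl | e
    · exact hj'
    · refine hj'.imp (fun h => ?_) fun h => ?_ <;>
      · show P.root k ∈ Submodule.span ℤ _
        rw [e]; exact Submodule.smul_mem _ _ h
  · refine P.ne_zero k ?_
    obtain ⟨c, hc, hcx⟩ := exists_coeff hD (root_mem_span P k)
    have hcA := coeff_support hD.linInd hA hc one_ne_zero (by rw [one_smul, hcx]; exact h₁)
    have hcB := coeff_support hD.linInd diff_subset hc one_ne_zero
      (by rw [one_smul, hcx]; exact h₂)
    have : c = 0 := Finsupp.support_eq_empty.mp
      (Finset.eq_empty_of_forall_notMem fun x hx => (hcB hx).2 (hcA hx))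
    rw [← hcx, this, map_zero]

lemma irred_linked (hirr : ∀ R' : Set ι, IsClosedSub P R' → IsSymmSub P R' →
    IsClosedSub P R'ᶜ → IsSymmSub P R'ᶜ → R' = ∅ ∨ R' = univ) (i j : ι) : Linked P i j := by
  obtain ⟨h₁, h₂, h₃, h₄⟩ := linked_isClopen (P := P) i
  rcases hirr _ h₁ h₂ h₃ h₄ with h | h
  · exact absurd (show i ∈ {k | Linked P i k} from .refl) (by rw [h]; exact id)
  · exact h.ge (mem_univ j)

/-- For linked roots, some conjugate of the first is not orthogonal to the second. -/
lemma exists_conj_not_orth {i j : ι} (h : Linked P i j) :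
    ∃ g : P.Aut, g ∈ P.weylGroup ∧ ¬ P.IsOrthogonal (g • i) j := by
  induction h with
  | refl => exact ⟨1, one_mem _, fun h => by simpa [pairing_same] using h.1⟩
  | @tail k l _ hkl ih =>
    obtain ⟨g, hg, hgk⟩ := ih
    by_cases hgl : P.IsOrthogonal (g • i) l
    · refine ⟨Equiv.reflection P k * g, mul_mem (P.reflection_mem_weylGroup k) hg, fun h => ?_⟩
      have h1 := h.1
      rw [mul_smul, refl_smul_idx, ← coroot'_root, root_reflectionPerm', map_sub, map_zsmul,
        coroot'_root, coroot'_root, hgl.1, smul_eq_mul, zero_sub, neg_eq_zero, mul_eq_zero] at h1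
      rcases h1 with h1 | h1
      · exact hgk ((isOrthogonal_iff P _ _).mpr h1)
      · exact hkl ((isOrthogonal_iff P _ _).mpr h1)
    · exact ⟨g, hg, hgl⟩

end Groth.Agent.RootDat
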