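import Groth.Agent.RootDat.Length

/-!
Root pairings over `ℤ`: dominant weights, word expansions.
-/

set_option autoImplicit false

namespace Groth.Agent.RootDat

open RootPairing RootD Set Function

variable {ι M N : Type*} [AddCommGroup M] [AddCommGroup N] {P : RootPairing ι ℤ M N}

/-- Expansion of `m - w m` along a reduced word. -/
lemma word_expansion {D S G : Set ι} (W : Walls P D S G) (l : List ι) (hl : ∀ a ∈ l, a ∈ D)
    (hmin : ∀ l' : List ι, (∀ a ∈ l', a ∈ D) → wprod P l' = wprod P l → l.length ≤ l'.length) :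
    ∃ L : List (ι × ι), L.map Prod.fst = l ∧ (∀ p ∈ L, p.2 ∈ S) ∧
      ∀ m : M, m - wprod P l • m = (L.map fun p => P.coroot' p.1 m • P.root p.2).sum := by
  induction l using List.reverseRecOn with
  | nil => exact ⟨[], rfl, by simp, fun m => by simp⟩
  | append_singleton t i ih =>
    have hi : i ∈ D := hl i (by simp)
    have ht : ∀ a ∈ t, a ∈ D := fun a ha => hl a (by simp [ha])
    have hpos := (W.last_neg t ht i hi hmin).1
    obtain ⟨L, hL₁, hL₂, hL₃⟩ := ih ht fun l' h₁ h₂ => by
      have := hmin (l' ++ [i]) (by simpa [or_imp, forall_and] using ⟨h₁, hi⟩)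
        (by rw [wprod_append, h₂, wprod_append])
      simpa using this
    refine ⟨L ++ [(i, wprod P t • i)], by simp [hL₁], ?_, fun m => ?_⟩
    · simp only [List.mem_append, List.mem_singleton]
      rintro p (hp | rfl)
      · exact hL₂ p hp
      · exact hpos
    · rw [List.map_append, List.sum_append, ← hL₃ m, wprod_append, mul_smul]
      simp only [wprod_cons, wprod_nil, mul_one, reflection_apply', List.map_cons, List.map_nil,
        List.sum_cons, List.sum_nil, add_zero, smul_root, smul_sub]
      rw [smul_comm]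
      abel

variable [Finite ι]

/-- Every functional gives a weight with the same signs on the coroots. -/
lemma exists_weight_sign (P : RootPairing ι ℤ M N) (f : M →+ ℤ) :
    ∃ m : M, ∀ i, (0 < P.coroot' i m ↔ 0 < f (P.root i)) := by
  let := Fintype.ofFinite ι
  refine ⟨P.toPerfPair.symm (f.toIntLinearMap ∘ₗ P.CoPolarization), fun i => ?_⟩
  have h : P.coroot' i (P.toPerfPair.symm (f.toIntLinearMap ∘ₗ P.CoPolarization)) =
      f (P.CoPolarization (P.coroot i)) := by
    simp [LinearMap.flip_apply, -CoPolarization_apply]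
  rw [h]
  have h2 := congr_arg f (coPolarization_coroot (P := P) i)
  rw [map_zsmul, map_zsmul, smul_eq_mul, smul_eq_mul] at h2
  have := coform_root_pos (P := P) i
  constructor <;> intro hh <;> nlinarith

/-- Nonnegativity on simple coroots gives nonnegativity on positive coroots. -/
lemma dominant_of_simple {D : Set ι} (_hD : IsSimpleSys P D) (m : M)
    (h : ∀ i ∈ D, 0 ≤ P.coroot' i m) {k : ι} (hk : k ∈ posOf P D) : 0 ≤ P.coroot' k m := by
  let := Fintype.ofFinite ι
  have hnn : 0 ≤ P.RootForm m (P.root k) :=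
    natSpan_nonneg P (S := D) (P.RootForm m).toAddMonoidHom (fun i hi => by
      have h1 := two_mul_form P i m
      rw [form_comm P (P.root i) m] at h1
      have := form_root_pos P i
      have := h i hi
      simp only [LinearMap.toAddMonoidHom_coe]
      nlinarith) hk
  have h1 := two_mul_form P k m
  rw [form_comm P (P.root k) m] at h1
  have := form_root_pos P k
  nlinarith

/-- Every orbit of the Weyl group meets the dominant weights of a simple system. -/
lemma exists_dominant {D : Set ι} (hD : IsSimpleSys P D) (m : M) :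
    ∃ g : P.Aut, g ∈ P.weylGroup ∧ ∀ k ∈ posOf P D, 0 ≤ P.coroot' k (g • m) := by
  have := finite_weylGroup P
  obtain ⟨f, -, hf⟩ := Simple.exists_fun hD
  obtain ⟨⟨g, hg⟩, hmax⟩ := Finite.exists_max fun g : P.weylGroup => f ((g : P.Aut) • m)
  refine ⟨g, hg, fun k hk => dominant_of_simple hD _ (fun i hi => ?_) hk⟩
  have h := hmax ⟨Equiv.reflection P i * g, mul_mem (P.reflection_mem_weylGroup i) hg⟩
  simp only [mul_smul, reflection_apply', map_sub, map_zsmul, smul_eq_mul] at h
  have := (hf i).mp (Simple.pos_of_mem hi)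
  nlinarith

section Ordered

variable {Γ : Type*} [AddCommGroup Γ] [LinearOrder Γ] [IsOrderedAddMonoid Γ]

/-- Decrease of a dominant functional along the Weyl group. -/
lemma sub_smul_expansion [Fintype ι] {D : Set ι} (hD : IsSimpleSys P D) (f : M →+ Γ)
    (hf : ∀ i ∈ posOf P D, 0 ≤ f (P.root i)) {g : P.Aut} (hg : g ∈ P.weylGroup) :
    ∃ c : ι → Γ, (∀ i, 0 ≤ c i) ∧ (∀ i, i ∉ D → c i = 0) ∧
      ∀ m : M, f m - f (g • m) = ∑ i, P.coroot' i m • c i := by
  classical
  obtain ⟨l, hl, rfl, hmin⟩ := exists_min_word P (Simple.mem_closure hD hg)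
  obtain ⟨L, hL₁, hL₂, hL₃⟩ := word_expansion (Simple.walls hD) l hl hmin
  refine ⟨fun i => (L.map fun p => if p.1 = i then f (P.root p.2) else 0).sum,
    fun i => List.sum_nonneg ?_, fun i hi => List.sum_eq_zero ?_, fun m => ?_⟩
  · simp only [List.mem_map]
    rintro x ⟨p, hp, rfl⟩
    split
    · exact hf _ (hL₂ p hp)
    · exact le_rfl
  · simp only [List.mem_map]
    rintro x ⟨p, hp, rfl⟩
    rw [if_neg]
    exact fun e => hi (e ▸ hl _ (hL₁ ▸ List.mem_map_of_mem hp))
  · rw [← map_sub, hL₃]
    clear hL₁ hL₂ hL₃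
    induction L with
    | nil => simp
    | cons p L ih =>
      simp only [List.map_cons, List.sum_cons, map_add, map_zsmul, smul_add,
        Finset.sum_add_distrib, ← ih]
      rw [Finset.sum_eq_single p.1 (fun b _ hb => by simp [Ne.symm hb]) (by simp)]
      simp

lemma smul_le_of_dominant {D : Set ι} (hD : IsSimpleSys P D) (f : M →+ Γ)
    (hf : ∀ i ∈ posOf P D, 0 ≤ f (P.root i)) {g : P.Aut} (hg : g ∈ P.weylGroup) (m : M)
    (hm : ∀ i ∈ posOf P D, 0 ≤ P.coroot' i m) : f (g • m) ≤ f m := by
  let := Fintype.ofFinite ι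
  obtain ⟨c, hc, hc₀, he⟩ := sub_smul_expansion hD f hf hg
  rw [← sub_nonneg, he m]
  refine Finset.sum_nonneg fun i _ => ?_
  by_cases hi : i ∈ D
  · exact zsmul_nonneg (hc i) (hm i (Simple.pos_of_mem hi))
  · simp [hc₀ i hi]

/-- Two dominant functionals in one orbit coincide. -/
lemma dominant_unique {D : Set ι} (hD : IsSimpleSys P D) (f : M →+ Γ) {g : P.Aut}
    (hg : g ∈ P.weylGroup) (h₁ : ∀ i ∈ posOf P D, 0 ≤ f (P.root i))
    (h₂ : ∀ i ∈ posOf P D, 0 ≤ f (g • P.root i)) (m : M) : f (g • m) = f m := by
  obtain ⟨l, hl, rfl, hmin⟩ := exists_min_word P (Simple.mem_closure hD hg)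
  clear hg
  induction l using List.reverseRecOn generalizing m with
  | nil => simp
  | append_singleton t i ih =>
    have hi : i ∈ D := hl i (by simp)
    have ht : ∀ a ∈ t, a ∈ D := fun a ha => hl a (by simp [ha])
    obtain ⟨hpos, -⟩ := (Simple.walls hD).last_neg t ht i hi hmin
    have htm : ∀ x, wprod P (t ++ [i]) • x =
        wprod P t • x - P.coroot' i x • P.root (wprod P t • i) := fun x => by
      rw [wprod_append, mul_smul]
      simp only [wprod_cons, wprod_nil, mul_one, reflection_apply', smul_sub, smul_root]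
      rw [smul_comm]
    have h0 : f (P.root (wprod P t • i)) = 0 := by
      have h := h₂ i (Simple.pos_of_mem hi)
      rw [htm, map_sub, map_zsmul, coroot'_root, pairing_same, smul_root, two_smul] at h
      refine le_antisymm ?_ (h₁ _ hpos)
      rw [smul_root]
      simpa using h
    have hsame : ∀ x, f (wprod P (t ++ [i]) • x) = f (wprod P t • x) := fun x => by
      rw [htm, map_sub, map_zsmul, h0, smul_zero, sub_zero]
    rw [hsame]
    refine ih m ht (fun k hk => hsame (P.root k) ▸ h₂ k hk) fun l' a b => ?_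
    have := hmin (l' ++ [i]) (by simpa [or_imp, forall_and] using ⟨a, hi⟩)
      (by rw [wprod_append, b, wprod_append])
    simpa using this

end Ordered

end Groth.Agent.RootDat
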