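import Groth.Agent.RootDat.Basic

/-!
Root pairings over `ℤ`: the root form, proportional roots, sums and differences of roots.
-/

set_option autoImplicit false

namespace Groth.Agent.RootDat

open RootPairing Set Function

variable {ι M N : Type*} [AddCommGroup M] [AddCommGroup N] (P : RootPairing ι ℤ M N)

include P in
lemma isTorsionFree_left : IsAddTorsionFree M := by
  have : Module.IsReflexive ℤ M := .of_isPerfPair P.toLinearMap
  exact .of_isTorsionFree ℤ M

lemma pairingIn_eq (i j : ι) : P.pairingIn ℤ i j = P.pairing i j := by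
  simpa using P.algebraMap_pairingIn ℤ i j

lemma coroot'_root (i j : ι) : P.coroot' i (P.root j) = P.pairing j i := rfl

lemma reflection_apply' (i : ι) (m : M) :
    Equiv.reflection P i • m = m - P.coroot' i m • P.root i := by
  simp [reflection_apply]

lemma root_reflectionPerm' (i k : ι) :
    P.root (P.reflectionPerm i k) = P.root k - P.pairing k i • P.root i :=
  (P.reflectionPerm_root i k).symm

lemma pairing_neg_left (i j : ι) : P.pairing (neg P i) j = -P.pairing i j :=
  P.pairing_reflectionPerm_self_left i j

lemma pairing_neg_right (i j : ι) : P.pairing i (neg P j) = -P.pairing i j :=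
  P.pairing_reflectionPerm_self_right i j

lemma root_mem_span (i : ι) : P.root i ∈ Submodule.span ℤ (range P.root) :=
  Submodule.subset_span (mem_range_self i)

section Forms

variable [Fintype ι]

lemma form_eq (x y : M) : P.RootForm x y = ∑ i, P.coroot' i x * P.coroot' i y := by
  simp [rootForm_apply_apply]

lemma form_comm (x y : M) : P.RootForm x y = P.RootForm y x := by
  rw [form_eq, form_eq]
  exact Finset.sum_congr rfl fun _ _ => mul_comm _ _

lemma form_refl_refl (i : ι) (x y : M) :
    P.RootForm (P.reflection i x) (P.reflection i y) = P.RootForm x y :=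
  P.rootForm_reflection_reflection_apply i x y

lemma form_pos {x : M} (hx : x ∈ Submodule.span ℤ (range P.root)) (h : x ≠ 0) :
    0 < P.RootForm x x :=
  P.rootForm_pos_of_ne_zero hx h

lemma form_root_pos (i : ι) : 0 < P.RootForm (P.root i) (P.root i) :=
  form_pos P (root_mem_span P i) (P.ne_zero i)

lemma two_mul_form (i : ι) (x : M) :
    P.RootForm (P.root i) (P.root i) * P.coroot' i x = 2 * P.RootForm (P.root i) x := by
  have h := form_refl_refl P i (P.root i) x
  rw [reflection_apply_self, reflection_apply] at h
  simp only [map_neg, LinearMap.neg_apply, map_sub, map_smul, smul_eq_mul] at h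
  linarith

lemma pairing_mul_form (i j : ι) :
    P.pairing i j * P.RootForm (P.root j) (P.root j) = 2 * P.RootForm (P.root j) (P.root i) := by
  rw [← coroot'_root, mul_comm, two_mul_form]

lemma form_smul (g : P.Aut) (x y : M) : P.RootForm (g • x) (g • y) = P.RootForm x y := by
  rw [form_eq, form_eq]
  rw [← (g.indexEquiv).sum_comp]
  refine Finset.sum_congr rfl fun i _ => ?_
  change P.coroot' (g • i) (g • x) * P.coroot' (g • i) (g • y) = _
  rw [coroot'_smul, coroot'_smul]

lemma form_root_smul (g : P.Aut) (i : ι) :
    P.RootForm (P.root (g • i)) (P.root (g • i)) = P.RootForm (P.root i) (P.root i) := by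
  rw [smul_root, form_smul]

lemma form_root_neg (i : ι) :
    P.RootForm (P.root (neg P i)) (P.root (neg P i)) = P.RootForm (P.root i) (P.root i) := by
  simp

lemma pairing_pos_iff (i j : ι) : 0 < P.pairing i j ↔ 0 < P.RootForm (P.root j) (P.root i) := by
  have h := pairing_mul_form P i j
  have hp := form_root_pos P j
  constructor <;> intro hh <;> nlinarith

lemma pairing_neg_iff (i j : ι) : P.pairing i j < 0 ↔ P.RootForm (P.root j) (P.root i) < 0 := by
  have h := pairing_mul_form P i j
  have hp := form_root_pos P j
  constructor <;> intro hh <;> nlinarith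

end Forms

variable [Finite ι]

lemma eq_zero_of_coroot' {x : M} (hx : x ∈ Submodule.span ℤ (range P.root))
    (h : ∀ i, P.coroot' i x = 0) : x = 0 := by
  let := Fintype.ofFinite ι
  by_contra hne
  have := form_pos P hx hne
  rw [form_eq] at this
  simp [h] at this

lemma eq_zero_of_nsmul_mem {x : M} {n : ℕ} (hn : 0 < n)
    (hx : n • x ∈ Submodule.span ℤ (range P.root))
    (h : ∀ i, P.coroot' i x = 0) : x = 0 := by
  have := isTorsionFree_left P
  have h0 : n • x = 0 := eq_zero_of_coroot' P hx fun i => by simp [map_nsmul, h i]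
  exact (nsmul_eq_zero_iff.mp h0).resolve_right hn.ne'

lemma pairing_comm_sign (i j : ι) : 0 < P.pairing i j ↔ 0 < P.pairing j i := by
  let := Fintype.ofFinite ι
  rw [pairing_pos_iff, pairing_pos_iff, form_comm]

lemma pairing_zero_comm (i j : ι) : P.pairing i j = 0 ↔ P.pairing j i = 0 := by
  let := Fintype.ofFinite ι
  have h₁ := pairing_mul_form P i j
  have h₂ := pairing_mul_form P j i
  rw [form_comm P (P.root i) (P.root j)] at h₂
  have := form_root_pos P i
  have := form_root_pos P j
  constructor <;> intro h <;> nlinarith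

lemma isOrthogonal_iff (i j : ι) : P.IsOrthogonal i j ↔ P.pairing i j = 0 :=
  ⟨fun h => h.1, fun h => ⟨h, (pairing_zero_comm P i j).mp h⟩⟩

lemma sub_mem_range_root {i j : ι} (h : 0 < P.pairing i j) (hne : i ≠ j) :
    P.root i - P.root j ∈ range P.root :=
  P.root_sub_root_mem_of_pairingIn_pos (by rwa [pairingIn_eq]) hne

lemma add_mem_range_root {i j : ι} (h : P.pairing i j < 0) (hne : P.root i ≠ -P.root j) :
    P.root i + P.root j ∈ range P.root :=
  P.root_add_root_mem_of_pairingIn_neg (by rwa [pairingIn_eq]) hne

/-- Reflections in proportional roots coincide. -/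
lemma refl_eq_of_smul {i j : ι} {a b : ℤ} (ha : a ≠ 0)
    (h : a • P.root i = b • P.root j) : Equiv.reflection P i = Equiv.reflection P j := by
  let := Fintype.ofFinite ι
  refine refl_eq_of P _ _ fun m => ?_
  have := isTorsionFree_left P
  simp only [reflection_apply]
  congr 1
  set Bi := P.RootForm (P.root i) (P.root i) with hBi
  set Bj := P.RootForm (P.root j) (P.root j) with hBj
  have hij : a ^ 2 * Bi = b ^ 2 * Bj := by
    have := congr_arg (fun x => P.RootForm x x) h
    simp only [map_smul, LinearMap.smul_apply, smul_eq_mul] at this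
    linarith
  have hm : a * P.RootForm (P.root i) m = b * P.RootForm (P.root j) m := by
    simpa using congr_arg (fun x => P.RootForm x m) h
  have hi := two_mul_form P i m
  have hj := two_mul_form P j m
  have hBi0 := form_root_pos P i
  have hb : b ≠ 0 := by rintro rfl; simp [ha] at hij; omega
  -- `a ⟨m, j∨⟩ = b ⟨m, i∨⟩`
  have key : P.coroot' i m * b = P.coroot' j m * a := by
    apply mul_left_cancel₀ (mul_ne_zero (pow_ne_zero 2 ha) hBi0.ne')
    rw [show a ^ 2 * Bi * (P.coroot' i m * b) = a ^ 2 * b * (Bi * P.coroot' i m) by ring,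
      show a ^ 2 * Bi * (P.coroot' j m * a) = a * (a ^ 2 * Bi) * P.coroot' j m by ring, hij,
      show a * (b ^ 2 * Bj) * P.coroot' j m = a * b ^ 2 * (Bj * P.coroot' j m) by ring, hi, hj]
    linear_combination 2 * a * b * hm
  apply zsmul_right_injective ha
  simp only
  rw [smul_smul, smul_smul, mul_comm a, mul_comm a, ← smul_smul, h, ← key, smul_smul]

/-- The possible integer ratios of proportional roots. -/
lemma nsmul_root_eq {i k : ι} {n : ℤ} (h : P.root k = n • P.root i) :
    n = 1 ∨ n = -1 ∨ n = 2 ∨ n = -2 := by
  have h1 : P.pairing k i = n * 2 := by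
    rw [← coroot'_root, h, map_smul, coroot'_root, pairing_same, smul_eq_mul]
  have h2 : n * P.pairing i k = 2 := by
    rw [← P.pairing_same k, ← coroot'_root P k k, h, map_smul, coroot'_root, smul_eq_mul]
  have : n ∣ 2 := ⟨_, h2.symm⟩
  have hb : n.natAbs ≤ 2 :=
    Nat.le_of_dvd (by norm_num) (by simpa using Int.natAbs_dvd_natAbs.mpr this)
  have h0 : n ≠ 0 := by rintro rfl; simp at h2
  rcases n.natAbs_eq with e | e <;> interval_cases hn : n.natAbs <;> omega

/-- Every root is an indivisible one or twice an indivisible one. -/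
lemma exists_indiv (k : ι) : ∃ j : ι, RootD.IsIndiv P j ∧
    (j = k ∨ P.root k = (2 : ℤ) • P.root j) := by
  by_cases hk : RootD.IsIndiv P k
  · exact ⟨k, hk, Or.inl rfl⟩
  · simp only [RootD.IsIndiv, not_forall, not_not] at hk
    obtain ⟨j, hj⟩ := hk
    refine ⟨j, fun l hl => ?_, Or.inr hj.symm⟩
    have := nsmul_root_eq P (i := l) (k := k) (n := 4) (by rw [← hj, ← hl, smul_smul]; norm_num)
    omega

omit [Finite ι] in
lemma indiv_smul (g : P.Aut) {i : ι} (h : RootD.IsIndiv P i) : RootD.IsIndiv P (g • i) := by
  intro j hj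
  apply h (g⁻¹ • j)
  rw [smul_root, ← smul_comm, hj, smul_root, inv_smul_smul]

omit [Finite ι] in
lemma indiv_neg {i : ι} (h : RootD.IsIndiv P i) : RootD.IsIndiv P (neg P i) :=
  indiv_smul P (Equiv.reflection P i) h

omit [Finite ι] in
lemma indiv_of_reduced [P.IsReduced] (i : ι) : RootD.IsIndiv P i := by
  intro j hj
  have h : ¬ LinearIndependent ℤ ![P.root j, P.root i] := fun hli =>
    absurd (LinearIndependent.pair_iff.mp hli 2 (-1) (by rw [hj]; simp)).2 (by norm_num)
  rcases IsReduced.eq_or_eq_neg (P := P) j i h with e | e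
  · rw [e] at hj
    have h1 : P.root i = (2 : ℤ) • P.root i := hj.symm
    rw [two_smul] at h1
    exact P.ne_zero i (by simpa using h1)
  · rw [e, smul_neg, two_smul] at hj
    have := isTorsionFree_left P
    have h3 : (3 : ℕ) • P.root i = 0 := by
      have : (3 : ℕ) • P.root i = -(-(P.root i + P.root i)) + P.root i := by abel
      rw [this, hj]; abel
    exact P.ne_zero i ((nsmul_eq_zero_iff.mp h3).resolve_right (by norm_num))

end Groth.Agent.RootDat
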