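import Groth.Agent.RootDat.Length
import Mathlib.Analysis.Matrix.PosDef
import Mathlib.Data.Real.StarOrdered

/-!
Gram matrices of simple systems.
-/

set_option autoImplicit false

namespace Groth.Agent.RootDat

open RootPairing RootD Set Function Matrix

variable {ι M N : Type*} [AddCommGroup M] [AddCommGroup N] {P : RootPairing ι ℤ M N} [Finite ι]

/-- The matrix of pairings with all coroots. -/
def evalMatrix (P : RootPairing ι ℤ M N) (A : Finset ι) : Matrix ι ↥A ℤ :=
  fun l a => P.pairing (a : ι) l

lemma gram_pos [Fintype ι] (A : Finset ι) (hli : LinearIndepOn ℤ P.root (↑A : Set ι))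
    (x : ↥A → ℤ) (hx : x ≠ 0) :
    0 < x ⬝ᵥ ((evalMatrix P A)ᵀ * evalMatrix P A) *ᵥ x := by
  rw [← mulVec_mulVec, dotProduct_mulVec, vecMul_transpose]
  set v := ∑ a : ↥A, x a • P.root (a : ι) with hv
  have hval : ∀ l, (evalMatrix P A *ᵥ x) l = P.coroot' l v := fun l => by
    simp only [hv, map_sum, map_zsmul, mulVec, dotProduct, evalMatrix, smul_eq_mul, coroot'_root]
    exact Finset.sum_congr rfl fun a _ => mul_comm _ _
  have hne : v ≠ 0 := fun h0 => hx (funext fun a => by
    have hli' : LinearIndependent ℤ fun a : ↥A => P.root (a : ι) := hli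
    exact Fintype.linearIndependent_iff.mp hli' x h0 a)
  have hmem : v ∈ Submodule.span ℤ (range P.root) :=
    Submodule.sum_mem _ fun a _ => Submodule.smul_mem _ _ (root_mem_span P _)
  have := form_pos P hmem hne
  rw [form_eq] at this
  simpa [dotProduct, hval] using this

lemma det_gram_pos [Fintype ι] [DecidableEq ι] (A : Finset ι)
    (hli : LinearIndepOn ℤ P.root (↑A : Set ι)) :
    0 < ((evalMatrix P A)ᵀ * evalMatrix P A).det := by
  set G := (evalMatrix P A)ᵀ * evalMatrix P A with hG
  have hne : G.det ≠ 0 := fun h0 => by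
    obtain ⟨x, hx, hGx⟩ := exists_mulVec_eq_zero_iff.mpr h0
    have := gram_pos A hli x hx
    rw [← hG, hGx, dotProduct_zero] at this
    omega
  have hnn : (0 : ℝ) ≤ (G.map (Int.castRingHom ℝ)).det := by
    rw [hG, Matrix.map_mul, transpose_map, ← conjTranspose_eq_transpose_of_trivial]
    exact (posSemidef_conjTranspose_mul_self _).det_nonneg
  rw [← RingHom.mapMatrix_apply, ← RingHom.map_det] at hnn
  simp only [eq_intCast, Int.cast_nonneg_iff] at hnn
  omega

lemma gram_eq [Fintype ι] [DecidableEq ι] (A : Finset ι) :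
    (Matrix.of fun a b : ↥A => P.RootForm (P.root a) (P.root a) * P.pairing (b : ι) (a : ι)) =
      (2 : ℤ) • ((evalMatrix P A)ᵀ * evalMatrix P A) := by
  ext a b
  rw [of_apply, mul_comm, pairing_mul_form, form_eq]
  simp [evalMatrix, mul_apply, coroot'_root]

/-- Principal minors of the Cartan matrix are positive. -/
lemma det_cartan_pos [Fintype ι] [DecidableEq ι] (A : Finset ι)
    (hli : LinearIndepOn ℤ P.root (↑A : Set ι)) :
    0 < Matrix.det (Matrix.of fun (a b : ↥A) => P.pairing (b : ι) (a : ι)) := by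
  have h := congr_arg Matrix.det (gram_eq (P := P) A)
  have hdiag : (Matrix.of fun a b : ↥A =>
      P.RootForm (P.root a) (P.root a) * P.pairing (b : ι) (a : ι)) =
      Matrix.diagonal (fun a : ↥A => P.RootForm (P.root a) (P.root a)) *
        Matrix.of fun (a b : ↥A) => P.pairing (b : ι) (a : ι) := by
    ext a b; simp [diagonal_mul]
  rw [hdiag, det_mul, det_diagonal, det_smul] at h
  have hprod : 0 < ∏ a : ↥A, P.RootForm (P.root a) (P.root a) :=
    Finset.prod_pos fun a _ => form_root_pos P _
  have := det_gram_pos A hli (P := P)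
  have : (0 : ℤ) < 2 ^ Fintype.card ↥A *
      ((evalMatrix P A)ᵀ * evalMatrix P A).det := mul_pos (by positivity) this
  nlinarith

lemma symm_posDef [Fintype ι] [DecidableEq ι] (A : Finset ι)
    (hli : LinearIndepOn ℤ P.root (↑A : Set ι)) :
    (Matrix.of fun a b : ↥A =>
        P.RootForm (P.root a) (P.root a) * P.pairing (b : ι) (a : ι)).IsSymm ∧
      (Matrix.of fun a b : ↥A =>
        P.RootForm (P.root a) (P.root a) * P.pairing (b : ι) (a : ι)).PosDef := by
  rw [gram_eq]
  set G := (evalMatrix P A)ᵀ * evalMatrix P A with hG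
  have hs : Gᵀ = G := by rw [hG, transpose_mul, transpose_transpose]
  have hs2 : ((2 : ℤ) • G)ᵀ = (2 : ℤ) • G := by rw [transpose_smul, hs]
  refine ⟨hs2, PosDef.of_dotProduct_mulVec_pos
    (by rw [IsHermitian, conjTranspose_eq_transpose_of_trivial]; exact hs2) fun x hx => ?_⟩
  rw [star_trivial, smul_mulVec, dotProduct_smul, smul_eq_mul]
  have := gram_pos A hli x hx
  linarith

end Groth.Agent.RootDat
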