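import Groth.Agent.RootDat.Weyl
import Mathlib.LinearAlgebra.FreeModule.PID

/-!
The root pairing over `ℤ` attached to a crystallographic root pairing over a domain of
characteristic zero.
-/

set_option autoImplicit false

namespace Groth.Agent.RootDat

open RootPairing Set Function

variable {ι R M N : Type*} [CommRing R] [CharZero R] [IsDomain R] [AddCommGroup M] [Module R M]
  [AddCommGroup N] [Module R N] (P : RootPairing ι R M N) [Finite ι] [P.IsCrystallographic]

include P in
lemma intTorsionFree : IsAddTorsionFree M := by
  have : Module.IsReflexive R M := .of_isPerfPair P.toLinearMap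
  exact .of_isTorsionFree R M

variable [P.IsReduced]

lemma coroot'In_injective : Injective fun i => P.coroot'In ℤ i := by
  intro i j h
  have : Module.IsReflexive R M := .of_isPerfPair P.toLinearMap
  have : Module.IsReflexive R N := .of_isPerfPair P.flip.toLinearMap
  have := intTorsionFree P
  have key : ∀ l, P.pairingIn ℤ l i = P.pairingIn ℤ l j := fun l => by
    have := LinearMap.congr_fun h (P.rootSpanMem ℤ l)
    simpa using this
  refine (P.pairingIn_two_two_iff ℤ i j).mp ⟨?_, ?_⟩
  · rw [← key i, P.pairingIn_same]
  · rw [key j, P.pairingIn_same]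

/-- The pairing over `ℤ` on the span of the roots and its dual. -/
noncomputable def intPairing :
    RootPairing ι ℤ (P.rootSpan ℤ) (Module.Dual ℤ (P.rootSpan ℤ)) :=
  have : IsAddTorsionFree M := intTorsionFree P
  have : Module.Finite ℤ (P.rootSpan ℤ) := .span_of_finite ℤ (Set.finite_range P.root)
  have : Module.Free ℤ (P.rootSpan ℤ) := Module.free_of_finite_type_torsion_free'
  { toLinearMap := LinearMap.id.flip
    isPerfPair_toLinearMap := inferInstance
    root := ⟨P.rootSpanMem ℤ, fun _ _ h => P.root.injective (congr_arg Subtype.val h)⟩
    coroot := ⟨fun i => P.coroot'In ℤ i, coroot'In_injective P⟩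
    root_coroot_two := fun i => by
      show P.coroot'In ℤ i (P.rootSpanMem ℤ i) = 2
      rw [coroot'In_rootSpanMem_eq_pairingIn, P.pairingIn_same]
    reflectionPerm := P.reflectionPerm
    reflectionPerm_root := fun i j => Subtype.ext <| by
      show P.root j - P.coroot'In ℤ i (P.rootSpanMem ℤ j) • P.root i =
        P.root (P.reflectionPerm i j)
      rw [coroot'In_rootSpanMem_eq_pairingIn, P.root_reflectionPerm, P.reflection_apply_root' ℤ]
    reflectionPerm_coroot := fun i j => LinearMap.ext fun x => by
      show P.coroot'In ℤ j x - P.coroot'In ℤ j (P.rootSpanMem ℤ i) * P.coroot'In ℤ i x =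
        P.coroot'In ℤ (P.reflectionPerm i j) x
      apply (algebraMap ℤ R).injective_int
      rw [map_sub, map_mul, algebraMap_coroot'In_apply, algebraMap_coroot'In_apply,
        algebraMap_coroot'In_apply, algebraMap_coroot'In_apply]
      show P.coroot' j x - P.coroot' j (P.root i) * P.coroot' i x =
        P.coroot' (P.reflectionPerm i j) x
      simp only [LinearMap.flip_apply]
      rw [← P.reflectionPerm_coroot i j, map_sub, map_smul, smul_eq_mul]
      }

lemma intPairing_pairing (i j : ι) : (intPairing P).pairing i j = P.pairingIn ℤ i j :=
  P.coroot'In_rootSpanMem_eq_pairingIn (i := j) (j := i) (S := ℤ)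

lemma intPairing_coroot_apply (i : ι) (x : P.rootSpan ℤ) :
    (intPairing P).coroot i x = P.coroot'In ℤ i x := rfl

instance : (intPairing P).IsReduced where
  eq_or_eq_neg i j h := by
    have := intTorsionFree P
    have h' : ¬ LinearIndependent R ![P.root i, P.root j] := fun hli => h <| by
      have := LinearIndependent.pair_iff.mp (hli.restrict_scalars' ℤ)
      refine LinearIndependent.pair_iff.mpr fun s t hst => this s t ?_
      exact congr_arg Subtype.val hst
    rcases IsReduced.eq_or_eq_neg (P := P) i j h' with e | e
    · exact Or.inl (Subtype.ext e)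
    · exact Or.inr (Subtype.ext e)

end Groth.Agent.RootDat
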