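import Groth.Agent.RootDat.Comb

/-!
Root pairings over `ℤ`: ratios of lengths, coroots through the polarization, extension of maps
defined on roots.
-/

set_option autoImplicit false

namespace Groth.Agent.RootDat

open RootPairing RootD Set Function

variable {ι M N : Type*} [AddCommGroup M] [AddCommGroup N] {P : RootPairing ι ℤ M N} [Finite ι]

lemma weight_cases (i j : ι) :
    0 ≤ P.pairing i j * P.pairing j i ∧ P.pairing i j * P.pairing j i ≤ 4 ∧
      (P.pairing i j * P.pairing j i = 4 ↔ ¬ LinearIndependent ℤ ![P.root i, P.root j]) := by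
  have h := P.coxeterWeightIn_mem_set_of_isCrystallographic i j
  have hdef : P.coxeterWeightIn ℤ i j = P.pairing i j * P.pairing j i := by
    simp [coxeterWeightIn, pairingIn_eq]
  have := isTorsionFree_left P
  have : Module.IsReflexive ℤ N := .of_isPerfPair P.flip.toLinearMap
  rw [hdef] at h
  simp only [mem_insert_iff, mem_singleton_iff] at h
  refine ⟨by omega, by omega, ?_⟩
  rw [← hdef]
  exact P.coxeterWeightIn_eq_four_iff_not_linearIndependent ℤ

/-- Proportional indivisible roots coincide, given a positive ratio. -/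
lemma prop_unique {i j : ι} (hi : IsIndiv P i) (hj : IsIndiv P j) {a b : ℤ} (ha : 0 < a)
    (hb : 0 < b) (h : b • P.root j = a • P.root i) : j = i ∧ a = b := by
  obtain ⟨e, he, hje, hab⟩ := prop_indiv hi hb.ne' h
  have hepos : 0 < e := by nlinarith
  rcases he with rfl | rfl | rfl | rfl
  · exact ⟨P.root.injective (by rw [hje, one_smul]), by omega⟩
  · omega
  · exact absurd hje.symm (hj i)
  · omega

lemma eq_or_eq_neg_of_dep [Fintype ι] {i j : ι}
    (hdep : ¬ LinearIndependent ℤ ![P.root i, P.root j])
    (hl : P.RootForm (P.root i) (P.root i) = P.RootForm (P.root j) (P.root j)) :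
    i = j ∨ i = neg P j := by
  rw [LinearIndependent.pair_iff] at hdep
  push Not at hdep
  obtain ⟨s, t, hst, hne⟩ := hdep
  have := isTorsionFree_left P
  have h : s • P.root i = (-t) • P.root j := by
    rw [neg_smul, ← eq_neg_iff_add_eq_zero.mpr hst]
  have hs : s ≠ 0 := fun hs => by
    subst hs
    rw [zero_smul, zero_add] at hst
    exact hne rfl ((smul_eq_zero.mp hst).resolve_right (P.ne_zero j))
  have hsq : s ^ 2 * P.RootForm (P.root i) (P.root i) = t ^ 2 * P.RootForm (P.root j) (P.root j) := by
    have := congr_arg (fun x => P.RootForm x x) h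
    simp only [map_smul, LinearMap.smul_apply, smul_eq_mul] at this
    linarith
  rw [hl] at hsq
  have := mul_right_cancel₀ (form_root_pos P j).ne' hsq
  rcases sq_eq_sq_iff_eq_or_eq_neg.mp this with e | e
  · refine Or.inr (P.root.injective (zsmul_right_injective hs ?_))
    simp only
    rw [h, root_neg, smul_neg, e, neg_smul]
  · refine Or.inl (P.root.injective (zsmul_right_injective hs ?_))
    simp only
    rw [h, e]

/-- Non-orthogonal roots of equal length are conjugate. -/
lemma exists_conj_of_length_eq [Fintype ι] {i j : ι} (hno : ¬ P.IsOrthogonal i j)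
    (hl : P.RootForm (P.root i) (P.root i) = P.RootForm (P.root j) (P.root j)) :
    ∃ g : P.Aut, g ∈ P.weylGroup ∧ g • i = j := by
  by_cases hdep : LinearIndependent ℤ ![P.root i, P.root j]
  · have h₁ := pairing_mul_form P i j
    have h₂ := pairing_mul_form P j i
    rw [form_comm P (P.root i) (P.root j), ← h₁, hl] at h₂
    have hpq : P.pairing j i = P.pairing i j := mul_right_cancel₀ (form_root_pos P j).ne' h₂
    obtain ⟨h0, h4, hiff⟩ := weight_cases (P := P) i j
    rw [hpq] at h0 h4 hiff
    have hne : P.pairing i j ≠ 0 := fun e => hno ((isOrthogonal_iff P i j).mpr e)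
    have hlt : P.pairing i j * P.pairing i j < 4 := lt_of_le_of_ne h4 fun e => hiff.mp e hdep
    have hcases : P.pairing i j = 1 ∨ P.pairing i j = -1 := by
      have h1 : P.pairing i j < 2 := by nlinarith
      have h2 : -2 < P.pairing i j := by nlinarith
      omega
    rcases hcases with e | e
    · refine ⟨Equiv.reflection P j * (Equiv.reflection P i * Equiv.reflection P j),
        mul_mem (P.reflection_mem_weylGroup j)
          (mul_mem (P.reflection_mem_weylGroup i) (P.reflection_mem_weylGroup j)),
        P.root.injective ?_⟩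
      simp only [smul_root, mul_smul, reflection_apply', coroot'_root, map_sub, map_smul,
        pairing_same, hpq, e]
      module
    · refine ⟨Equiv.reflection P i * Equiv.reflection P j,
        mul_mem (P.reflection_mem_weylGroup i) (P.reflection_mem_weylGroup j),
        P.root.injective ?_⟩
      simp only [smul_root, mul_smul, reflection_apply', coroot'_root, map_sub, map_smul,
        pairing_same, hpq, e]
      module
  · rcases eq_or_eq_neg_of_dep hdep hl with e | e
    · exact ⟨1, one_mem _, by rw [one_smul, e]⟩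
    · exact ⟨Equiv.reflection P j, P.reflection_mem_weylGroup j, by
        rw [e, refl_smul_idx]; exact P.reflectionPerm_self j j⟩

/-- The ratio of squared lengths of non-orthogonal roots. -/
lemma length_ratio [Fintype ι] {i j : ι} (hno : ¬ P.IsOrthogonal i j)
    (hle : P.RootForm (P.root i) (P.root i) ≤ P.RootForm (P.root j) (P.root j)) :
    ∃ c : ℤ, (c = 1 ∨ c = 2 ∨ c = 3 ∨ c = 4) ∧
      P.RootForm (P.root j) (P.root j) = c * P.RootForm (P.root i) (P.root i) ∧
      (c = 4 → ¬ LinearIndependent ℤ ![P.root i, P.root j]) := by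
  have h₁ := pairing_mul_form P i j
  have h₂ := pairing_mul_form P j i
  rw [form_comm P (P.root i) (P.root j), ← h₁] at h₂
  obtain ⟨h0, h4, hiff⟩ := weight_cases (P := P) i j
  have hq : P.pairing i j ≠ 0 := fun e => hno ((isOrthogonal_iff P i j).mpr e)
  have hBi := form_root_pos P i
  have hBj := form_root_pos P j
  set p := P.pairing j i
  set q := P.pairing i j
  set Bi := P.RootForm (P.root i) (P.root i)
  set Bj := P.RootForm (P.root j) (P.root j)
  have hp : p ≠ 0 := fun e => hq ((pairing_zero_comm P i j).mpr e)
  have hpos : 0 < q * p := lt_of_le_of_ne h0 (mul_ne_zero hq hp).symm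
  -- `q ^ 2 ≤ q p ≤ 4`
  have hqp : q * q ≤ q * p := le_of_mul_le_mul_right (a := Bi)
    (calc q * q * Bi ≤ q * q * Bj := mul_le_mul_of_nonneg_left hle (mul_self_nonneg q)
      _ = q * p * Bi := by linear_combination -q * h₂) hBi
  have hq2 : q = 1 ∨ q = -1 ∨ q = 2 ∨ q = -2 := by
    have h1 : q ≤ 2 := by nlinarith
    have h2 : -2 ≤ q := by nlinarith
    omega
  rcases hq2 with e | e | e | e
  · rw [e] at h₂ h0 h4 hpos hiff
    exact ⟨p, by omega, by linarith, fun h => hiff.mp (by rw [h]; norm_num)⟩
  · rw [e] at h₂ h0 h4 hpos hiff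
    exact ⟨-p, by omega, by linarith, fun h => hiff.mp (by linarith)⟩
  · rw [e] at h₂ hqp h4
    have hp2 : p = 2 := by omega
    rw [hp2] at h₂
    exact ⟨1, by omega, by linarith, fun h => absurd h (by norm_num)⟩
  · rw [e] at h₂ hqp h4
    have hp2 : p = -2 := by omega
    rw [hp2] at h₂
    exact ⟨1, by omega, by linarith, fun h => absurd h (by norm_num)⟩

lemma length_ratio_reduced [Fintype ι] [P.IsReduced] {i j : ι} (hno : ¬ P.IsOrthogonal i j)
    (hle : P.RootForm (P.root i) (P.root i) ≤ P.RootForm (P.root j) (P.root j)) :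
    ∃ c : ℤ, (c = 1 ∨ c = 2 ∨ c = 3) ∧
      P.RootForm (P.root j) (P.root j) = c * P.RootForm (P.root i) (P.root i) := by
  obtain ⟨c, hc, he, h4⟩ := length_ratio hno hle
  refine ⟨c, ?_, he⟩
  rcases hc with h | h | h | h
  · omega
  · omega
  · omega
  · exfalso
    have hp := form_root_pos P i
    rw [h] at he
    rcases IsReduced.eq_or_eq_neg (P := P) i j (h4 h) with e | e
    · rw [e] at he hp; omega
    · rw [e] at he hp; simp only [map_neg, LinearMap.neg_apply, _root_.neg_neg] at he hp; omega

/-- A map on roots which is odd and additive extends to the group they generate. -/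
lemma exists_hom_extend (P : RootPairing ι ℤ M N) {G : Type*} [AddCommGroup G]
    (f : ι → G) (hneg : ∀ i : ι, f (P.reflectionPerm i i) = -f i)
    (hadd : ∀ i j k : ι, P.root k = P.root i + P.root j → f k = f i + f j) :
    ∃! φ : Submodule.span ℤ (Set.range P.root) →+ G,
      ∀ i : ι, φ ⟨P.root i, Submodule.subset_span (Set.mem_range_self i)⟩ = f i := by
  obtain ⟨D, hD⟩ := exists_simple_sys P
  let v : D → Submodule.span ℤ (range P.root) := fun i => ⟨P.root i, root_mem_span P i⟩
  have hli : LinearIndependent ℤ v :=
    LinearIndependent.of_comp (Submodule.span ℤ (range P.root)).subtype hD.linInd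
  have hsp : ⊤ ≤ Submodule.span ℤ (range v) := by
    rintro ⟨x, hx⟩ -
    obtain ⟨c, hc, rfl⟩ := exists_coeff hD hx
    have : (⟨_, hx⟩ : Submodule.span ℤ (range P.root)) =
        ∑ l ∈ c.support.attach, c l • v ⟨l, hc l.2⟩ := by
      apply Subtype.ext
      simp only [AddSubmonoidClass.coe_finsetSum, SetLike.val_smul, v]
      rw [Finsupp.linearCombination_apply, Finsupp.sum, ← Finset.sum_attach]
    rw [this]
    exact Submodule.sum_mem _ fun l _ => Submodule.smul_mem _ _ (Submodule.subset_span ⟨_, rfl⟩)
  let φ : Submodule.span ℤ (range P.root) →+ G :=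
    ((Module.Basis.mk hli hsp).constr ℤ fun i : D => f i).toAddMonoidHom
  have hpos : ∀ k ∈ posOf P D, φ ⟨P.root k, root_mem_span P k⟩ = f k := fun k hk => by
    refine Simple.induction (p := fun k => φ ⟨P.root k, root_mem_span P k⟩ = f k) hD ?_ ?_ hk
    · intro i hi
      show ((Module.Basis.mk hli hsp).constr ℤ fun i : D => f i) (v ⟨i, hi⟩) = _
      rw [← Module.Basis.mk_apply hli hsp ⟨i, hi⟩, Module.Basis.constr_basis]
    · intro a b c _ _ ha hb he
      rw [hadd a b c he, ← ha, ← hb, ← map_add]
      congr 1
      exact Subtype.ext he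
  refine ⟨φ, fun k => ?_, fun ψ hψ => ?_⟩
  · rcases Simple.pos_cover hD k with hk | hk
    · exact hpos k hk
    · have := hpos _ hk
      rw [hneg k, show (⟨P.root (neg P k), root_mem_span P _⟩ : Submodule.span ℤ (range P.root)) =
        -⟨P.root k, root_mem_span P k⟩ from Subtype.ext (root_neg P k), map_neg, neg_inj] at this
      exact this
  · refine congr_arg LinearMap.toAddMonoidHom
      ((Module.Basis.mk hli hsp).ext (f₁ := ψ.toIntLinearMap)
        (f₂ := (Module.Basis.mk hli hsp).constr ℤ fun i : D => f i) fun i => ?_)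
    rw [Module.Basis.constr_basis, Module.Basis.mk_apply]
    exact hψ i

lemma polarization_root [Fintype ι] (i : ι) :
    P.RootForm (P.root i) (P.root i) • P.coroot i = (2 : ℤ) • P.Polarization (P.root i) := by
  rw [P.rootForm_self_smul_coroot i, two_nsmul, two_smul]

lemma coPolarization_coroot [Fintype ι] (i : ι) :
    P.CorootForm (P.coroot i) (P.coroot i) • P.root i = (2 : ℤ) • P.CoPolarization (P.coroot i) :=
  polarization_root (P := P.flip) i

lemma coform_root_pos [Fintype ι] (i : ι) : 0 < P.CorootForm (P.coroot i) (P.coroot i) :=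
  form_root_pos P.flip i

end Groth.Agent.RootDat
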