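import Groth.Agent.RootDat.Length

/-!
Root pairings over `ℤ`: maps scaling the roots.
-/

set_option autoImplicit false

namespace Groth.Agent.RootDat

open RootPairing RootD Set Function

variable {ι M N ι' M' N' : Type*} [AddCommGroup M] [AddCommGroup N] [AddCommGroup M']
  [AddCommGroup N'] {P : RootPairing ι ℤ M N} {P' : RootPairing ι' ℤ M' N'}
  {f : M' →ₗ[ℤ] M} {g : N →ₗ[ℤ] N'} {u : ι ≃ ι'} {q : ι → ℕ}

/-- The data of a scaled morphism of root pairings. -/
structure Scaled (P : RootPairing ι ℤ M N) (P' : RootPairing ι' ℤ M' N') (f : M' →ₗ[ℤ] M)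
    (g : N →ₗ[ℤ] N') (u : ι ≃ ι') (q : ι → ℕ) : Prop where
  transpose : ∀ (m' : M') (n : N), P.toLinearMap (f m') n = P'.toLinearMap m' (g n)
  pos : ∀ i, 0 < q i
  root : ∀ i : ι, f (P'.root (u i)) = (q i : ℤ) • P.root i
  coroot : ∀ i : ι, g (P.coroot i) = (q i : ℤ) • P'.coroot (u i)

lemma Scaled.pairing (h : Scaled P P' f g u q) (i j : ι) :
    (q i : ℤ) * P'.pairing (u j) (u i) = q j * P.pairing j i := by
  have := h.transpose (P'.root (u j)) (P.coroot i)
  rw [h.root, h.coroot, map_smul, LinearMap.smul_apply, map_smul, smul_eq_mul, smul_eq_mul] at this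
  exact this.symm

lemma Scaled.inj [Finite ι'] (h : Scaled P P' f g u q) {v : M'}
    (hv : v ∈ Submodule.span ℤ (range P'.root)) (hfv : f v = 0) : v = 0 :=
  eq_zero_of_coroot' P' hv fun a => by
    have := h.transpose v (P.coroot (u.symm a))
    rw [hfv, map_zero, LinearMap.zero_apply, h.coroot, map_smul, u.apply_symm_apply,
      smul_eq_mul, eq_comm, mul_eq_zero] at this
    exact this.resolve_left (Nat.cast_ne_zero.mpr (h.pos _).ne')

lemma Scaled.refl [Finite ι] [P.IsReduced] (h : Scaled P P' f g u q) (i j : ι) :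
    q (P.reflectionPerm i j) = q j ∧
      u (P.reflectionPerm i j) = P'.reflectionPerm (u i) (u j) := by
  obtain ⟨m, hm⟩ := u.surjective (P'.reflectionPerm (u i) (u j))
  have hroot : (q m : ℤ) • P.root m = (q j : ℤ) • P.root (P.reflectionPerm i j) := by
    rw [← h.root, hm, root_reflectionPerm', map_sub, map_smul, h.root, h.root, smul_smul,
      mul_comm, h.pairing, root_reflectionPerm', smul_sub, smul_smul]
  obtain ⟨e, hq⟩ := prop_unique (indiv_of_reduced P (P.reflectionPerm i j)) (indiv_of_reduced P m)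
    (a := (q j : ℤ)) (b := (q m : ℤ)) (by exact_mod_cast h.pos j) (by exact_mod_cast h.pos m) hroot
  subst e
  exact ⟨by omega, hm⟩

lemma Scaled.smul [Finite ι] [P.IsReduced] (h : Scaled P P' f g u q) {w : P.Aut}
    (hw : w ∈ P.weylGroup) :
    ∃ w' ∈ P'.weylGroup, ∀ i : ι, u (w • i) = w' • u i ∧ q (w • i) = q i := by
  induction hw using weylGroup.induction with
  | mem a =>
    exact ⟨_, P'.reflection_mem_weylGroup (u a), fun i => ⟨(h.refl a i).2, (h.refl a i).1⟩⟩
  | one => exact ⟨1, one_mem _, fun i => by simp⟩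
  | mul x y _ _ hx hy =>
    obtain ⟨x', hx', hx⟩ := hx
    obtain ⟨y', hy', hy⟩ := hy
    refine ⟨x' * y', mul_mem hx' hy', fun i => ?_⟩
    rw [mul_smul, mul_smul, (hx _).1, (hy i).1, (hx _).2, (hy i).2]
    exact ⟨rfl, rfl⟩

lemma Scaled.exists_preimage [Finite ι] [P.IsReduced] (h : Scaled P P' f g u q) {w' : P'.Aut}
    (hw : w' ∈ P'.weylGroup) :
    ∃ w ∈ P.weylGroup, ∀ i : ι, u (w • i) = w' • u i := by
  induction hw using weylGroup.induction with
  | mem a =>
    obtain ⟨a, rfl⟩ := u.surjective a
    exact ⟨_, P.reflection_mem_weylGroup a, fun i => (h.refl a i).2⟩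
  | one => exact ⟨1, one_mem _, fun i => by simp⟩
  | mul x y _ _ hx hy =>
    obtain ⟨x', hx', hx⟩ := hx
    obtain ⟨y', hy', hy⟩ := hy
    exact ⟨x' * y', mul_mem hx' hy', fun i => by rw [mul_smul, mul_smul, hx, hy]⟩

lemma Scaled.posSys [Finite ι] [Finite ι'] (h : Scaled P P' f g u q) (S : Set ι) :
    IsPosSys P S ↔ IsPosSys P' (u '' S) := by
  constructor
  · intro hS
    obtain ⟨φ, hne, hφ⟩ := posSys_exists_fun P hS
    have : u '' S = {a | 0 < φ (f (P'.root a))} := by
      ext a
      obtain ⟨i, rfl⟩ := u.surjective a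
      rw [u.injective.mem_set_image, mem_ofPred_eq, h.root, map_zsmul, smul_eq_mul,
        mul_pos_iff_of_pos_left (by exact_mod_cast h.pos i), hφ]
    rw [this]
    exact isPosSys_pos P' (φ.comp f.toAddMonoidHom) fun a => by
      obtain ⟨i, rfl⟩ := u.surjective a
      show φ (f (P'.root (u i))) ≠ 0
      rw [h.root, map_zsmul, smul_eq_mul]
      exact mul_ne_zero (Nat.cast_ne_zero.mpr (h.pos i).ne') (hne i)
  · intro hS
    obtain ⟨φ, hne, hφ⟩ := posSys_exists_fun P' hS
    have hsign : ∀ i, i ∈ S ↔ 0 < φ (P'.root (u i)) := fun i => by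
      rw [← hφ, u.injective.mem_set_image]
    have hanti : ∀ i, (q (neg P i) : ℤ) * φ (P'.root (u i)) +
        (q i : ℤ) * φ (P'.root (u (neg P i))) = 0 := fun i => by
      have h0 : (q (neg P i) : ℤ) • P'.root (u i) + (q i : ℤ) • P'.root (u (neg P i)) = 0 := by
        refine h.inj (add_mem (Submodule.smul_mem _ _ (root_mem_span P' _))
          (Submodule.smul_mem _ _ (root_mem_span P' _))) ?_
        rw [map_add, map_smul, map_smul, h.root, h.root, root_neg]
        module
      simpa using congr_arg φ h0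
    refine (Groth.Agent.RootDat.isPosSys_iff P S).mpr ⟨fun i hi hni => ?_, fun i => ?_, fun i j k hi hj hk => ?_⟩
    · rw [hsign] at hi hni
      have := hanti i
      have := h.pos i; have := h.pos (neg P i)
      nlinarith
    · rw [hsign, hsign]
      rcases lt_or_gt_of_ne (hne (u i)) with hi | hi
      · right
        have := hanti i
        have := h.pos i; have := h.pos (neg P i)
        by_contra hcon
        nlinarith
      · exact Or.inl hi
    · rw [hsign] at hi hj ⊢
      have h0 : ((q j : ℤ) * q k) • P'.root (u i) + ((q i : ℤ) * q k) • P'.root (u j) -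
          ((q i : ℤ) * q j) • P'.root (u k) = 0 := by
        refine h.inj (sub_mem (add_mem (Submodule.smul_mem _ _ (root_mem_span P' _))
          (Submodule.smul_mem _ _ (root_mem_span P' _)))
          (Submodule.smul_mem _ _ (root_mem_span P' _))) ?_
        rw [map_sub, map_add, map_smul, map_smul, map_smul, h.root, h.root, h.root, hk]
        module
      have h1 := congr_arg φ h0
      simp only [map_sub, map_add, map_zsmul, map_zero, smul_eq_mul] at h1
      have hqi : (0 : ℤ) < q i := by exact_mod_cast h.pos i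
      have hqj : (0 : ℤ) < q j := by exact_mod_cast h.pos j
      have hqk : (0 : ℤ) < q k := by exact_mod_cast h.pos k
      by_contra hcon
      push Not at hcon
      nlinarith [mul_pos (mul_pos hqj hqk) hi, mul_pos (mul_pos hqi hqk) hj,
        mul_nonpos_of_nonneg_of_nonpos (mul_pos hqi hqj).le hcon]

/-- Positive rescalings of indivisible simple roots of a simple system remain a simple system. -/
lemma Scaled.multiples_natSpan [DecidableEq ι] (h : Scaled P P' f g u q) (c : ι →₀ ℤ) :
    f (c.sum fun a z => (z * ∏ b ∈ c.support.erase a, (q b : ℤ)) • P'.root (u a)) =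
      (∏ b ∈ c.support, (q b : ℤ)) • Finsupp.linearCombination ℤ P.root c := by

  rw [map_finsuppSum, Finsupp.linearCombination_apply, Finsupp.smul_sum]
  refine Finset.sum_congr rfl fun a ha => ?_
  simp only
  rw [map_smul, h.root, smul_smul, smul_smul, ← Finset.mul_prod_erase _ _ ha]
  congr 1
  ring

end Groth.Agent.RootDat
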