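import Groth.Agent.RootDat.Form

/-!
Root pairings over `ℤ`: functionals positive on closed pointed sets of roots, positive systems,
and generic functionals vanishing on a saturated set of roots.
-/

set_option autoImplicit false

namespace Groth.Agent.RootDat

open RootPairing RootD Set Function

variable {ι M N : Type*} [AddCommGroup M] [AddCommGroup N] (P : RootPairing ι ℤ M N) [Finite ι]

/-- `x` is the sum of a nonempty list of roots taken from `S`. -/
def IsSumOf (S : Set ι) (x : M) : Prop :=
  ∃ l : List ι, l ≠ [] ∧ (∀ a ∈ l, a ∈ S) ∧ (l.map P.root).sum = x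

lemma sum_ne_zero {S : Set ι} (hdis : ∀ i ∈ S, neg P i ∉ S) (hcl : IsClosedSub P S)
    (l : List ι) (hne : l ≠ []) (hl : ∀ a ∈ l, a ∈ S) : (l.map P.root).sum ≠ 0 := by
  classical
  let := Fintype.ofFinite ι
  induction h : l.length using Nat.strong_induction_on generalizing l with
  | _ n ih =>
    intro hsum
    obtain ⟨a, t, rfl⟩ := List.exists_cons_of_ne_nil hne
    rw [List.map_cons, List.sum_cons] at hsum
    have ha : a ∈ S := hl a (by simp)
    obtain ⟨b, hbt, hb⟩ : ∃ b ∈ t, P.pairing b a < 0 := by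
      by_contra! hcon
      have h0 : P.coroot' a (P.root a + (t.map P.root).sum) = 0 := by rw [hsum, map_zero]
      rw [map_add, coroot'_root, pairing_same, map_list_sum] at h0
      have : (0 : ℤ) ≤ ((t.map P.root).map (P.coroot' a)).sum := by
        apply List.sum_nonneg
        simp only [List.map_map, List.mem_map, Function.comp_apply]
        rintro x ⟨b, hb, rfl⟩
        rw [coroot'_root]; exact hcon b hb
      omega
    have hbS : b ∈ S := hl b (by simp [hbt])
    have hne' : P.root b ≠ -P.root a := by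
      rw [← root_neg]
      exact fun e => hdis a ha (P.root.injective e ▸ hbS)
    obtain ⟨c, hc⟩ := add_mem_range_root P hb hne'
    have hcS : c ∈ S := hcl hbS ha hc
    refine ih ((c :: t.erase b).length) ?_ (c :: t.erase b) (by simp) ?_ rfl ?_
    · rw [← h]
      simp only [List.length_cons, List.length_erase_of_mem hbt]
      have := List.length_pos_of_mem hbt
      omega
    · intro x hx
      rcases List.mem_cons.mp hx with rfl | hx
      · exact hcS
      · exact hl x (by simp [List.mem_of_mem_erase hx])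
    · rw [((List.perm_cons_erase hbt).map P.root).sum_eq, List.map_cons, List.sum_cons] at hsum
      rw [List.map_cons, List.sum_cons, hc]
      rw [← hsum]
      abel

/-- A closed set of roots without opposite pairs lies in an open half-space. -/
lemma exists_pos_fun (S : Set ι) (hdis : ∀ i ∈ S, neg P i ∉ S) (hcl : IsClosedSub P S) :
    ∃ f : M →+ ℤ, ∀ i ∈ S, 0 < f (P.root i) := by
  classical
  let := Fintype.ofFinite ι
  induction h : S.ncard using Nat.strong_induction_on generalizing S with
  | _ n ih =>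
    rcases S.eq_empty_or_nonempty with rfl | hne
    · exact ⟨0, by simp⟩
    let r : ι → ι → Prop := fun a b => IsSumOf P S (P.root a - P.root b)
    have : IsTrans ι r := ⟨fun a b c ⟨l, h₁, h₂, h₃⟩ ⟨l', h₁', h₂', h₃'⟩ =>
      ⟨l ++ l', by simp [h₁], by simpa [or_imp, forall_and] using ⟨h₂, h₂'⟩,
        by rw [List.map_append, List.sum_append, h₃, h₃']; abel⟩⟩
    have : Std.Irrefl r := ⟨fun a ⟨l, h₁, h₂, h₃⟩ =>
      sum_ne_zero P hdis hcl l h₁ h₂ (by rw [h₃, sub_self])⟩
    obtain ⟨β, hβ, hmax⟩ := (Finite.wellFounded_of_trans_of_irrefl r).has_min S hne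
    have hnn : ∀ a ∈ S, 0 ≤ P.RootForm (P.root β) (P.root a) := by
      intro a ha
      by_contra! hlt
      rw [← pairing_neg_iff] at hlt
      have hne' : P.root a ≠ -P.root β := by
        rw [← root_neg]
        exact fun e => hdis β hβ (P.root.injective e ▸ ha)
      obtain ⟨c, hc⟩ := add_mem_range_root P hlt hne'
      exact hmax c (hcl ha hβ hc) ⟨[a], by simp, by simpa using ha, by simp [hc]⟩
    let S' := {a | a ∈ S ∧ P.RootForm (P.root β) (P.root a) = 0}
    have hS' : S' ⊂ S := ⟨fun a ha => ha.1, fun hsub =>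
      (form_root_pos P β).ne' (hsub hβ).2⟩
    obtain ⟨f, hf⟩ := ih S'.ncard (h ▸ Set.ncard_lt_ncard hS') S'
      (fun i hi hi' => hdis i hi.1 hi'.1)
      (fun i j k hi hj hk => ⟨hcl hi.1 hj.1 hk, by rw [hk, map_add, hi.2, hj.2, add_zero]⟩) rfl
    let g : M →+ ℤ := (P.RootForm (P.root β)).toAddMonoidHom
    refine ⟨(1 + ∑ j, |f (P.root j)|) • g + f, fun i hi => ?_⟩
    simp only [AddMonoidHom.add_apply, AddMonoidHom.smul_apply, smul_eq_mul, g,
      LinearMap.toAddMonoidHom_coe]
    have hle : |f (P.root i)| ≤ ∑ j, |f (P.root j)| :=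
      Finset.single_le_sum (f := fun j => |f (P.root j)|) (fun j _ => abs_nonneg _)
        (Finset.mem_univ i)
    rcases (hnn i hi).eq_or_lt' with h0 | h0
    · rw [h0, mul_zero, zero_add]; exact hf i ⟨hi, h0⟩
    · have := neg_abs_le (f (P.root i))
      have : 0 ≤ ∑ j, |f (P.root j)| := Finset.sum_nonneg fun j _ => abs_nonneg _
      nlinarith [Int.add_one_le_iff.mpr h0]

/-- Lexicographic combination of two functionals. -/
lemma exists_lex (g f : M →+ ℤ) :
    ∃ h : M →+ ℤ, ∀ i, (0 < h (P.root i) ↔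
        0 < g (P.root i) ∨ g (P.root i) = 0 ∧ 0 < f (P.root i)) ∧
      (h (P.root i) = 0 ↔ g (P.root i) = 0 ∧ f (P.root i) = 0) := by
  let := Fintype.ofFinite ι
  refine ⟨(1 + ∑ j, |f (P.root j)|) • g + f, fun i => ?_⟩
  simp only [AddMonoidHom.add_apply, AddMonoidHom.smul_apply, smul_eq_mul]
  have hle : |f (P.root i)| ≤ ∑ j, |f (P.root j)| :=
    Finset.single_le_sum (f := fun j => |f (P.root j)|) (fun j _ => abs_nonneg _)
      (Finset.mem_univ i)
  have h₁ := neg_abs_le (f (P.root i))
  have h₂ := le_abs_self (f (P.root i))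
  rcases lt_trichotomy (g (P.root i)) 0 with h0 | h0 | h0
  · constructor <;> constructor <;> intro hh
    · exfalso; nlinarith
    · omega
    · exfalso; nlinarith
    · omega
  · simp [h0]
  · constructor <;> constructor <;> intro hh
    · exact Or.inl h0
    · nlinarith
    · exfalso; nlinarith
    · omega

/-- A functional nonvanishing on each of finitely many roots, inside a group of functionals. -/
lemma exists_generic (H : AddSubgroup (M →+ ℤ)) (s : Set ι)
    (h : ∀ i ∈ s, ∃ g ∈ H, g (P.root i) ≠ 0) :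
    ∃ g ∈ H, ∀ i ∈ s, g (P.root i) ≠ 0 := by
  classical
  let := Fintype.ofFinite ι
  induction s, s.toFinite using Set.Finite.induction_on with
  | empty => exact ⟨0, H.zero_mem, by simp⟩
  | @insert a s ha _ ih =>
    obtain ⟨g, hgH, hg⟩ := ih fun i hi => h i (mem_insert_of_mem _ hi)
    by_cases hga : g (P.root a) = 0
    · obtain ⟨g', hg'H, hg'⟩ := h a (mem_insert _ _)
      refine ⟨(1 + ∑ j, |g' (P.root j)|) • g + g', H.add_mem (H.zsmul_mem hgH _) hg'H, ?_⟩
      intro i hi
      simp only [AddMonoidHom.add_apply, AddMonoidHom.smul_apply, smul_eq_mul]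
      rcases hi with rfl | hi
      · simpa [hga] using hg'
      · have hle : |g' (P.root i)| ≤ ∑ j, |g' (P.root j)| :=
          Finset.single_le_sum (f := fun j => |g' (P.root j)|) (fun j _ => abs_nonneg _)
            (Finset.mem_univ i)
        have h₁ := neg_abs_le (g' (P.root i))
        have h₂ := le_abs_self (g' (P.root i))
        rcases lt_or_gt_of_ne (hg i hi) with h0 | h0 <;> nlinarith
    · exact ⟨g, hgH, fun i hi => hi.elim (fun e => e ▸ hga) (hg i)⟩

lemma exists_regular : ∃ g : M →+ ℤ, ∀ i, g (P.root i) ≠ 0 := by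
  let := Fintype.ofFinite ι
  obtain ⟨g, -, hg⟩ := exists_generic P ⊤ univ fun i _ =>
    ⟨(P.RootForm (P.root i)).toAddMonoidHom, trivial, (form_root_pos P i).ne'⟩
  exact ⟨g, fun i => hg i trivial⟩

lemma exists_regular_pos {f : M →+ ℤ} : ∃ h : M →+ ℤ, (∀ i, h (P.root i) ≠ 0) ∧
    ∀ i, 0 < f (P.root i) → 0 < h (P.root i) := by
  obtain ⟨g, hg⟩ := exists_regular P
  obtain ⟨h, hh⟩ := exists_lex P f g
  exact ⟨h, fun i e => hg i ((hh i).2.mp e).2, fun i hi => (hh i).1.mpr (Or.inl hi)⟩

omit [Finite ι] in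
lemma natSpan_nonneg {S : Set ι} {G : Type*} [AddCommGroup G] [PartialOrder G]
    [IsOrderedAddMonoid G] (f : M →+ G) (hf : ∀ i ∈ S, 0 ≤ f (P.root i)) {x : M}
    (hx : x ∈ natSpan P S) : 0 ≤ f x := by
  induction hx using AddSubmonoid.closure_induction with
  | mem x hx => obtain ⟨i, hi, rfl⟩ := hx; exact hf i hi
  | zero => simp
  | add x y _ _ hx hy => rw [map_add]; exact add_nonneg hx hy

omit [Finite ι] in
lemma natSpan_pos_or_zero {S : Set ι} (f : M →+ ℤ) (hf : ∀ i ∈ S, 0 < f (P.root i)) {x : M}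
    (hx : x ∈ natSpan P S) : x = 0 ∨ 0 < f x := by
  induction hx using AddSubmonoid.closure_induction with
  | mem x hx => obtain ⟨i, hi, rfl⟩ := hx; exact Or.inr (hf i hi)
  | zero => simp
  | add x y _ _ hx hy =>
    rcases hx with rfl | hx
    · simpa using hy
    rcases hy with rfl | hy
    · simpa using Or.inr hx
    · exact Or.inr (by rw [map_add]; omega)

omit [Finite ι] in
lemma isPosSys_of_fun {G : Type*} [AddCommGroup G] [PartialOrder G] [IsOrderedAddMonoid G]
    (φ : M →+ G) (hφ : ∀ i : ι, 0 < φ (P.root i) ∨ φ (P.root i) < 0) :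
    IsPosSys P {i : ι | 0 < φ (P.root i)} where
  disjoint i hi := by
    simp only [mem_ofPred_eq, root_neg, map_neg, neg_pos] at *
    exact fun h => lt_asymm hi h
  cover i := by
    simp only [mem_ofPred_eq, root_neg, map_neg, neg_pos]
    exact hφ i
  sat k n hn hk := by
    refine (hφ k).resolve_right fun hlt => ?_
    have h := natSpan_nonneg P φ (fun i hi => le_of_lt hi) hk
    rw [map_nsmul] at h
    exact absurd h (not_le_of_gt (nsmul_neg hlt hn.ne'))

omit [Finite ι] in
lemma isPosSys_pos (f : M →+ ℤ) (hf : ∀ i, f (P.root i) ≠ 0) :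
    IsPosSys P {i | 0 < f (P.root i)} :=
  isPosSys_of_fun P f fun i => (lt_or_gt_of_ne (hf i)).symm

omit [Finite ι] in
lemma posSys_closed {S : Set ι} (hS : IsPosSys P S) : IsClosedSub P S :=
  fun i j k hi hj hk => hS.sat 1 one_pos (by
    rw [one_smul, hk]
    exact add_mem (AddSubmonoid.subset_closure ⟨i, hi, rfl⟩)
      (AddSubmonoid.subset_closure ⟨j, hj, rfl⟩))

/-- Positive systems are cut out by regular functionals. -/
lemma exists_fun_of_closed {S : Set ι} (hdis : ∀ i ∈ S, neg P i ∉ S)
    (hcov : ∀ i, i ∈ S ∨ neg P i ∈ S) (hcl : IsClosedSub P S) :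
    ∃ f : M →+ ℤ, (∀ i, f (P.root i) ≠ 0) ∧ ∀ i, i ∈ S ↔ 0 < f (P.root i) := by
  obtain ⟨f, hf⟩ := exists_pos_fun P S hdis hcl
  obtain ⟨h, hne, hpos⟩ := exists_regular_pos P (f := f)
  refine ⟨h, hne, fun i => ⟨fun hi => hpos i (hf i hi), fun hi => ?_⟩⟩
  refine (hcov i).resolve_right fun hn => ?_
  have := hpos _ (hf _ hn)
  rw [root_neg, map_neg] at this
  omega

lemma posSys_exists_fun {S : Set ι} (hS : IsPosSys P S) :
    ∃ f : M →+ ℤ, (∀ i, f (P.root i) ≠ 0) ∧ ∀ i, i ∈ S ↔ 0 < f (P.root i) :=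
  exists_fun_of_closed P (fun _ hi => hS.disjoint hi) hS.cover (posSys_closed P hS)

lemma isPosSys_iff (S : Set ι) : IsPosSys P S ↔
    ((∀ i ∈ S, neg P i ∉ S) ∧ (∀ i : ι, i ∈ S ∨ neg P i ∈ S) ∧ IsClosedSub P S) := by
  refine ⟨fun hS => ⟨fun i hi => hS.disjoint hi, hS.cover, (posSys_closed P hS)⟩,
    fun ⟨h₁, h₂, h₃⟩ => ?_⟩
  obtain ⟨f, hne, hf⟩ := exists_fun_of_closed P h₁ h₂ h₃
  rw [show S = {i | 0 < f (P.root i)} from Set.ext hf]
  exact isPosSys_pos P f hne

section Orth

variable [Fintype ι]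

/-- Scaled orthogonal projection off a finite set of roots, for the root form. -/
lemma exists_orth (R' : Set ι) (x : M) (hx : x ∈ Submodule.span ℤ (range P.root)) :
    ∃ (n : ℕ) (x' : M), 0 < n ∧ x' ∈ Submodule.span ℤ (range P.root) ∧
      (∀ i ∈ R', P.RootForm x' (P.root i) = 0) ∧
      n • x - x' ∈ Submodule.span ℤ (P.root '' R') := by
  induction R', R'.toFinite using Set.Finite.induction_on generalizing x with
  | empty => exact ⟨1, x, one_pos, hx, by simp, by simp⟩
  | @insert a s ha _ ih =>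
    obtain ⟨m, a', hm, ha'sp, ha', hma⟩ := ih (P.root a) (root_mem_span P a)
    obtain ⟨n, x', hn, hx'sp, hx', hnx⟩ := ih x hx
    have hsub : Submodule.span ℤ (P.root '' s) ≤ Submodule.span ℤ (P.root '' insert a s) :=
      Submodule.span_mono (image_mono (subset_insert a s))
    have horth : ∀ y : M, (∀ i ∈ s, P.RootForm y (P.root i) = 0) →
        ∀ z ∈ Submodule.span ℤ (P.root '' s), P.RootForm y z = 0 := fun y hy =>
      (Submodule.span_le (p := LinearMap.ker (P.RootForm y))).mpr
        (by rintro _ ⟨i, hi, rfl⟩; exact hy i hi)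
    by_cases ha0 : a' = 0
    · refine ⟨n, x', hn, hx'sp, ?_, hsub hnx⟩
      rintro i (rfl | hi)
      · have h := horth x' hx' _ hma
        rw [ha0, sub_zero, map_nsmul] at h
        exact (nsmul_eq_zero_iff.mp h).resolve_right hm.ne'
      · exact hx' i hi
    · have hpos := form_pos P ha'sp ha0
      obtain ⟨b, hb⟩ := Int.eq_ofNat_of_zero_le hpos.le
      refine ⟨n * b, (b : ℤ) • x' - P.RootForm x' a' • a', ?_, ?_, ?_, ?_⟩
      · exact Nat.mul_pos hn (by omega)
      · exact sub_mem (Submodule.smul_mem _ _ hx'sp) (Submodule.smul_mem _ _ ha'sp)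
      · rintro i (rfl | hi)
        · have h₁ : P.RootForm x' (m • P.root i) = P.RootForm x' a' := by
            rw [← sub_eq_zero, ← map_sub]; exact horth x' hx' _ hma
          have h₂ : P.RootForm a' (m • P.root i) = P.RootForm a' a' := by
            rw [← sub_eq_zero, ← map_sub]; exact horth a' ha' _ hma
          simp only [map_nsmul, nsmul_eq_mul] at h₁ h₂
          simp only [map_sub, map_smul, LinearMap.sub_apply, LinearMap.smul_apply, smul_eq_mul]
          apply mul_left_cancel₀ (show (m : ℤ) ≠ 0 by omega)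
          linear_combination (b : ℤ) * h₁ - P.RootForm x' a' * h₂ - P.RootForm x' a' * hb
        · simp [map_sub, hx' i hi, ha' i hi]
      · have h₁ : (b : ℤ) • (n • x - x') ∈ Submodule.span ℤ (P.root '' insert a s) :=
          Submodule.smul_mem _ _ (hsub hnx)
        have h₂ : P.RootForm x' a' • a' ∈ Submodule.span ℤ (P.root '' insert a s) := by
          refine Submodule.smul_mem _ _ ?_
          have h := sub_mem (Submodule.smul_mem _ (m : ℤ)
            (Submodule.subset_span (mem_image_of_mem P.root (mem_insert a s)))) (hsub hma)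
          rwa [natCast_zsmul, sub_sub_cancel] at h
        have := add_mem h₁ h₂
        convert this using 1
        rw [smul_sub, natCast_zsmul, natCast_zsmul, ← mul_nsmul]
        abel

end Orth

/-- For a saturated set of roots, a functional vanishing on exactly these roots. -/
lemma exists_fun_zero_iff (R' : Set ι)
    (hsat : ∀ k : ι, (∃ n : ℕ, 0 < n ∧ n • P.root k ∈ Submodule.span ℤ (P.root '' R')) → k ∈ R') :
    ∃ g : M →+ ℤ, ∀ i, g (P.root i) = 0 ↔ i ∈ R' := by
  let := Fintype.ofFinite ι
  let H : AddSubgroup (M →+ ℤ) :=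
    { carrier := {g | ∀ i ∈ R', g (P.root i) = 0}
      add_mem' := fun hg hg' i hi => by simp [hg i hi, hg' i hi]
      zero_mem' := fun i _ => rfl
      neg_mem' := fun hg i hi => by simp [hg i hi] }
  obtain ⟨g, hgH, hg⟩ := exists_generic P H R'ᶜ fun k hk => by
    obtain ⟨n, x', hn, hsp, hx', hnx⟩ := exists_orth P R' (P.root k) (root_mem_span P k)
    refine ⟨(P.RootForm x').toAddMonoidHom, fun i hi => hx' i hi, fun h0 => ?_⟩
    have horth : P.RootForm x' (n • P.root k - x') = 0 :=
      (Submodule.span_le (p := LinearMap.ker (P.RootForm x'))).mpr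
        (by rintro _ ⟨i, hi, rfl⟩; exact hx' i hi) hnx
    simp only [LinearMap.toAddMonoidHom_coe] at h0
    rw [map_sub, map_nsmul, h0, smul_zero, zero_sub, neg_eq_zero] at horth
    have hx0 : x' = 0 := by
      by_contra hne
      exact (form_pos P hsp hne).ne' horth
    exact hk (hsat k ⟨n, hn, by simpa [hx0] using hnx⟩)
  exact ⟨g, fun i => ⟨fun h => by_contra fun hi => hg i hi h, hgH i⟩⟩

end Groth.Agent.RootDat
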