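import Groth.Agent.RootDat.BaseR
import Mathlib.LinearAlgebra.QuadraticForm.Basic

/-!
Quadratic forms invariant under coreflections.
-/

set_option autoImplicit false

namespace Groth.Agent.RootDat

open RootPairing Set Function

variable {ι R M N : Type*} [CommRing R] [CharZero R] [IsDomain R] [AddCommGroup M] [Module R M]
  [AddCommGroup N] [Module R N] {P : RootPairing ι R M N}

lemma quad_sub_smul (Q : QuadraticMap R N R) (y v : N) (t : R) :
    Q (y - t • v) = Q y + (t * t * Q v - t * QuadraticMap.polar Q y v) := by
  have h : QuadraticMap.polar Q y ((-t) • v) = (-t) * QuadraticMap.polar Q y v := by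
    rw [QuadraticMap.polar_comm, QuadraticMap.polar_smul_left, smul_eq_mul,
      QuadraticMap.polar_comm]
  rw [QuadraticMap.polar, QuadraticMap.map_smul, smul_eq_mul, neg_smul, ← sub_eq_add_neg] at h
  linear_combination h

/-- Invariance under a coreflection on a submodule containing the coroot. -/
lemma invariant_iff (Q : QuadraticMap R N R) (j : ι) (D : Submodule R N) (hj : P.coroot j ∈ D) :
    (∀ y ∈ D, Q (P.coreflection j y) = Q y) ↔
      ∀ y ∈ D, QuadraticMap.polar Q y (P.coroot j) = P.root' j y * Q (P.coroot j) := by
  have key : ∀ y, Q (P.coreflection j y) - Q y =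
      P.root' j y * (P.root' j y * Q (P.coroot j) - QuadraticMap.polar Q y (P.coroot j)) := by
    intro y
    rw [coreflection_apply, quad_sub_smul]
    ring
  refine ⟨fun h => ?_, fun h y hy => sub_eq_zero.mp (by rw [key, h y hy, sub_self, mul_zero])⟩
  have hne : ∀ y ∈ D, P.root' j y ≠ 0 →
      QuadraticMap.polar Q y (P.coroot j) = P.root' j y * Q (P.coroot j) := fun y hy h0 => by
    have := key y
    rw [h y hy, sub_self, eq_comm, mul_eq_zero] at this
    exact (sub_eq_zero.mp (this.resolve_left h0)).symm
  intro y hy
  by_cases h0 : P.root' j y = 0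
  · have e2 : P.root' j (y + P.coroot j) = 2 := by
      rw [map_add, h0, zero_add]
      exact P.pairing_same j
    have := hne (y + P.coroot j) (add_mem hy hj) (by rw [e2]; exact two_ne_zero)
    rw [QuadraticMap.polar_add_left, QuadraticMap.polar_self, e2, two_nsmul] at this
    rw [h0, zero_mul]
    linear_combination this
  · exact hne y hy h0

lemma coreflection_mem (i : ι) {D : Submodule R N} (hD : P.coroot i ∈ D) {y : N} (hy : y ∈ D) :
    P.coreflection i y ∈ D := by
  rw [coreflection_apply]
  exact sub_mem hy (Submodule.smul_mem _ _ hD)

variable [Finite ι] [P.IsCrystallographic] [P.IsReduced]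

/-- Invariance under the simple coreflections implies invariance under all of them. -/
lemma invariant_of_simple (b : P.Base) (Q : QuadraticMap R N R) (D : Submodule R N)
    (hD : ∀ i, P.coroot i ∈ D) (h : ∀ j ∈ b.support, ∀ y ∈ D, Q (P.coreflection j y) = Q y)
    (i : ι) : ∀ y ∈ D, Q (P.coreflection i y) = Q y := by
  refine b.induction_reflect (p := fun i => ∀ y ∈ D, Q (P.coreflection i y) = Q y) i ?_ h ?_
  · intro k hk y hy
    have e : P.coreflection (P.reflectionPerm k k) y = P.coreflection k y := by
      show P.coreflection (neg P k) y = _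
      rw [coreflection_apply, coreflection_apply]
      show y - P.toLinearMap (P.root (neg P k)) y • P.coroot (neg P k) =
        y - P.toLinearMap (P.root k) y • P.coroot k
      rw [root_neg, coroot_neg, map_neg, LinearMap.neg_apply, smul_neg, neg_smul, _root_.neg_neg]
    rw [e]; exact hk y hy
  · intro k j hk hj y hy
    have e : P.coreflection (P.reflectionPerm j k) y =
        P.coreflection j (P.coreflection k (P.coreflection j y)) := by
      rw [coreflection_eq_flip_reflection]
      exact LinearEquiv.congr_fun (P.flip.reflection_reflectionPerm (i := k) (j := j)) y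
    rw [e, h j hj _ (coreflection_mem k (hD k) (coreflection_mem j (hD j) hy)),
      hk _ (coreflection_mem j (hD j) hy), h j hj y hy]

end Groth.Agent.RootDat
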