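import Groth.Agent.RootDat.PosSys

/-!
Root pairings over `ℤ`: simple systems, their positive roots, and the Weyl group.
-/

set_option autoImplicit false

namespace Groth.Agent.RootDat

open RootPairing RootD Set Function IsAddIndecomposable

variable {ι M N : Type*} [AddCommGroup M] [AddCommGroup N] (P : RootPairing ι ℤ M N)

lemma natSpan_iff {D : Set ι} {x : M} :
    x ∈ natSpan P D ↔ ∃ c : ι →₀ ℤ, (↑c.support ⊆ D ∧ ∀ j, 0 ≤ c j) ∧
      Finsupp.linearCombination ℤ P.root c = x := by
  constructor
  · intro hx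
    induction hx using AddSubmonoid.closure_induction with
    | mem x hx =>
      obtain ⟨i, hi, rfl⟩ := hx
      classical
      refine ⟨Finsupp.single i 1, ⟨?_, fun j => ?_⟩, by simp⟩
      · exact fun j hj => by
          have := Finsupp.support_single_subset hj
          simp only [Finset.mem_singleton] at this
          exact this ▸ hi
      · by_cases h : i = j <;> simp [h]
    | zero => exact ⟨0, ⟨by simp, fun j => le_rfl⟩, by simp⟩
    | add x y _ _ hx hy =>
      classical
      obtain ⟨c, ⟨hc, hc'⟩, rfl⟩ := hx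
      obtain ⟨d, ⟨hd, hd'⟩, rfl⟩ := hy
      refine ⟨c + d, ⟨fun j hj => ?_, fun j => add_nonneg (hc' j) (hd' j)⟩, map_add _ _ _⟩
      rcases Finset.mem_union.mp (Finsupp.support_add hj) with h | h
      · exact hc h
      · exact hd h
  · rintro ⟨c, ⟨hc, hc'⟩, rfl⟩
    rw [Finsupp.linearCombination_apply]
    refine sum_mem fun j hj => ?_
    obtain ⟨n, hn⟩ := Int.eq_ofNat_of_zero_le (hc' j)
    simp only [hn, natCast_zsmul]
    exact AddSubmonoid.nsmul_mem _ (AddSubmonoid.subset_closure (mem_image_of_mem _ (hc hj))) _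

lemma natSpan_le_span (D : Set ι) {x : M} (hx : x ∈ natSpan P D) :
    x ∈ Submodule.span ℤ (P.root '' D) := by
  induction hx using AddSubmonoid.closure_induction with
  | mem x hx => exact Submodule.subset_span hx
  | zero => exact zero_mem _
  | add x y _ _ hx hy => exact add_mem hx hy

lemma natSpan_mono {D D' : Set ι} (h : D ⊆ D') : natSpan P D ≤ natSpan P D' :=
  AddSubmonoid.closure_mono (image_mono h)

lemma coeff_unique {D : Set ι} (hli : LinearIndepOn ℤ P.root D) {c d : ι →₀ ℤ}
    (hc : ↑c.support ⊆ D) (hd : ↑d.support ⊆ D)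
    (h : Finsupp.linearCombination ℤ P.root c = Finsupp.linearCombination ℤ P.root d) : c = d :=
  linearIndepOn_iffₛ.mp hli c ((Finsupp.mem_supported ℤ c).mpr hc) d
    ((Finsupp.mem_supported ℤ d).mpr hd) h

lemma eq_zero_of_natSpan_neg {D : Set ι} (hli : LinearIndepOn ℤ P.root D) {x : M}
    (h₁ : x ∈ natSpan P D) (h₂ : -x ∈ natSpan P D) : x = 0 := by
  classical
  obtain ⟨c, ⟨hc, hc'⟩, hcx⟩ := (natSpan_iff P).mp h₁
  obtain ⟨d, ⟨hd, hd'⟩, hdx⟩ := (natSpan_iff P).mp h₂
  have : c + d = 0 := coeff_unique P hli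
    (fun j hj => (Finset.mem_union.mp (Finsupp.support_add hj)).elim (fun h => hc h) fun h => hd h)
    (by simp) (by rw [map_add, hcx, hdx, add_neg_cancel, map_zero])
  have hc0 : c = 0 := Finsupp.ext fun j => by
    have := DFunLike.congr_fun this j
    simp only [Finsupp.add_apply, Finsupp.coe_zero, Pi.zero_apply] at this
    have := hc' j; have := hd' j
    simp only [Finsupp.coe_zero, Pi.zero_apply]; omega
  rw [← hcx, hc0, map_zero]

variable {P}
variable {D : Set ι}

lemma Simple.pos_of_mem {i : ι} (hi : i ∈ D) : i ∈ posOf P D :=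
  AddSubmonoid.subset_closure (mem_image_of_mem _ hi)

lemma Simple.pos_disjoint (hD : IsSimpleSys P D) {i : ι} (hi : i ∈ posOf P D) :
    neg P i ∉ posOf P D := fun h => by
  have h' : -P.root i ∈ natSpan P D := root_neg P i ▸ h
  exact P.ne_zero i (eq_zero_of_natSpan_neg P hD.linInd hi h')

lemma Simple.pos_cover (hD : IsSimpleSys P D) (i : ι) :
    i ∈ posOf P D ∨ neg P i ∈ posOf P D := by
  refine (hD.mem_or_neg_mem i).imp id fun h => ?_
  show P.root (neg P i) ∈ natSpan P D
  rwa [root_neg]

lemma Simple.neg_iff (hD : IsSimpleSys P D) (i : ι) :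
    neg P i ∈ posOf P D ↔ i ∉ posOf P D :=
  ⟨fun h h' => Simple.pos_disjoint hD h' h, (Simple.pos_cover hD i).resolve_left⟩

lemma Simple.pos_closed : IsClosedSub P (posOf P D) := fun i j k hi hj hk => by
  show P.root k ∈ natSpan P D
  rw [hk]; exact add_mem hi hj

variable [Finite ι]

lemma Simple.posOf_isPosSys (hD : IsSimpleSys P D) : IsPosSys P (posOf P D) :=
  (isPosSys_iff P _).mpr
    ⟨fun _ hi => Simple.pos_disjoint hD hi, Simple.pos_cover hD, Simple.pos_closed⟩

lemma Simple.exists_fun (hD : IsSimpleSys P D) :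
    ∃ f : M →+ ℤ, (∀ i, f (P.root i) ≠ 0) ∧ ∀ i, i ∈ posOf P D ↔ 0 < f (P.root i) :=
  posSys_exists_fun P (Simple.posOf_isPosSys hD)

omit [Finite ι] in
/-- A functional positive on the simple roots cuts out the positive roots. -/
lemma Simple.pos_iff (hD : IsSimpleSys P D) {f : M →+ ℤ} (hf : ∀ i ∈ D, 0 < f (P.root i))
    (i : ι) : i ∈ posOf P D ↔ 0 < f (P.root i) := by
  refine ⟨fun h => (natSpan_pos_or_zero P f hf h).resolve_left (P.ne_zero i), fun h => ?_⟩
  refine (Simple.pos_cover hD i).resolve_right fun hn => ?_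
  have := (natSpan_pos_or_zero P f hf hn).resolve_left (P.ne_zero _)
  rw [root_neg, map_neg] at this
  omega

omit [Finite ι] in
lemma mem_baseOf {f : M →+ ℤ} {i : ι} : i ∈ baseOf P.root f ↔ 0 < f (P.root i) ∧
    ¬ ∃ j k, 0 < f (P.root j) ∧ 0 < f (P.root k) ∧ P.root i = P.root j + P.root k := by
  constructor
  · intro hi
    refine ⟨hi.1, fun ⟨j, k, hj, hk, he⟩ => ?_⟩
    rcases hi.2 j hj k hk he with h | h
    · exact P.ne_zero j h
    · exact P.ne_zero k h
  · rintro ⟨h, h'⟩
    exact ⟨h, fun j hj k hk he => absurd ⟨j, k, hj, hk, he⟩ h'⟩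

/-- The indecomposable positive roots of a regular functional form a simple system. -/
lemma isSimpleSys_baseOf {f : M →+ ℤ} (hf : ∀ i, f (P.root i) ≠ 0) :
    IsSimpleSys P (baseOf P.root f) := by
  refine ⟨?_, fun i => ?_⟩
  · exact P.linearIndepOn_root_baseOf' (S := ℤ) f.toIntLinearMap hf
  · let := P.indexNeg
    exact mem_or_neg_mem_closure_baseOf P.root f i (hf i) (root_neg P i)

/-- A simple system is the set of indecomposable elements of each functional positive on it. -/
lemma Simple.eq_baseOf (hD : IsSimpleSys P D) {f : M →+ ℤ}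
    (hf : ∀ i ∈ D, 0 < f (P.root i)) : D = baseOf P.root f := by
  classical
  have hreg : ∀ i, f (P.root i) ≠ 0 := fun i h => by
    rcases Simple.pos_cover hD i with hi | hi
    · exact ((Simple.pos_iff hD hf i).mp hi).ne' h
    · have := (Simple.pos_iff hD hf _).mp hi
      rw [root_neg, map_neg, h] at this
      omega
  have hsub : D ⊆ baseOf P.root f := by
    intro i hi
    refine mem_baseOf.mpr ⟨hf i hi, fun ⟨j, k, hj, hk, he⟩ => ?_⟩
    obtain ⟨c, ⟨hc, hc'⟩, hcx⟩ := (natSpan_iff P).mp ((Simple.pos_iff hD hf j).mpr hj)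
    obtain ⟨d, ⟨hd, hd'⟩, hdx⟩ := (natSpan_iff P).mp ((Simple.pos_iff hD hf k).mpr hk)
    have heq : c + d = Finsupp.single i 1 := coeff_unique P hD.linInd
      (fun j hj => (Finset.mem_union.mp (Finsupp.support_add hj)).elim
        (fun h => hc h) fun h => hd h)
      (fun j hj => by
        have := Finsupp.support_single_subset hj
        simp only [Finset.mem_singleton] at this
        exact this ▸ hi)
      (by rw [map_add, hcx, hdx, ← he]; simp)
    have hci : ∀ l, l ≠ i → c l = 0 ∧ d l = 0 := fun l hl => by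
      have := DFunLike.congr_fun heq l
      simp only [Finsupp.add_apply, Finsupp.single_eq_of_ne hl] at this
      have := hc' l; have := hd' l
      omega
    have hi1 := DFunLike.congr_fun heq i
    simp only [Finsupp.add_apply, Finsupp.single_eq_same] at hi1
    have := hc' i; have := hd' i
    rcases (show c i = 0 ∨ d i = 0 by omega) with h0 | h0
    · have hc0 : c = 0 := Finsupp.ext fun l => by
        by_cases hl : l = i
        · simp [hl, h0]
        · simp [(hci l hl).1]
      exact P.ne_zero j (by rw [← hcx, hc0, map_zero])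
    · have hd0 : d = 0 := Finsupp.ext fun l => by
        by_cases hl : l = i
        · simp [hl, h0]
        · simp [(hci l hl).2]
      exact P.ne_zero k (by rw [← hdx, hd0, map_zero])
  refine subset_antisymm hsub fun a ha => ?_
  by_contra haD
  have hli : LinearIndepOn ℤ P.root (insert a D) :=
    (isSimpleSys_baseOf hreg).linInd.mono (insert_subset ha hsub)
  obtain ⟨c, ⟨hc, -⟩, hcx⟩ := (natSpan_iff P).mp
    ((Simple.pos_iff hD hf a).mpr (mem_baseOf.mp ha).1)
  have := coeff_unique P hli (c := c) (d := Finsupp.single a 1)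
    (fun j hj => mem_insert_of_mem _ (hc hj))
    (fun j hj => by
      have := Finsupp.support_single_subset hj
      simp only [Finset.mem_singleton] at this
      exact this ▸ mem_insert _ _)
    (by simp [hcx])
  have hca : c a = 1 := by rw [this]; simp
  exact haD (hc (Finsupp.mem_support_iff.mpr (by omega)))

/-- Each positive system contains exactly one simple system. -/
lemma existsUnique_simple {S : Set ι} (hS : IsPosSys P S) :
    ∃! D : Set ι, IsSimpleSys P D ∧ D ⊆ S := by
  obtain ⟨f, hne, hf⟩ := posSys_exists_fun P hS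
  exact ⟨baseOf P.root f, ⟨isSimpleSys_baseOf hne, fun i hi => (hf i).mpr hi.1⟩,
    fun D hD => Simple.eq_baseOf hD.1 fun i hi => (hf i).mp (hD.2 hi)⟩

lemma Simple.subset_iff (hD : IsSimpleSys P D) {S : Set ι} (hS : IsPosSys P S) :
    D ⊆ S ↔ S = posOf P D := by
  refine ⟨fun h => ?_, fun h => h ▸ fun i hi => Simple.pos_of_mem hi⟩
  obtain ⟨f, -, hf⟩ := posSys_exists_fun P hS
  ext k
  rw [hf, Simple.pos_iff hD (fun i hi => (hf i).mp (h hi))]

omit [Finite ι] in
lemma Simple.eq_of_posOf_eq {D' : Set ι} [Finite ι] (hD : IsSimpleSys P D)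
    (hD' : IsSimpleSys P D') (h : posOf P D = posOf P D') : D = D' :=
  (existsUnique_simple (Simple.posOf_isPosSys hD)).unique
    ⟨hD, fun i hi => Simple.pos_of_mem hi⟩ ⟨hD', h ▸ fun i hi => Simple.pos_of_mem hi⟩

/-- A positive root is simple or the sum of two positive roots. -/
lemma Simple.mem_iff (hD : IsSimpleSys P D) {k : ι} (hk : k ∈ posOf P D) :
    k ∈ D ↔ ¬ ∃ i j : ι, i ∈ posOf P D ∧ j ∈ posOf P D ∧ P.root k = P.root i + P.root j := by
  obtain ⟨f, -, hf⟩ := Simple.exists_fun hD
  have hb := Simple.eq_baseOf hD fun i hi => (hf i).mp (Simple.pos_of_mem hi)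
  simp only [hf] at hk ⊢
  rw [hb, mem_baseOf, and_iff_right hk]

/-- Induction over positive roots: simple roots, and sums of two positive roots. -/
lemma Simple.induction (hD : IsSimpleSys P D) {p : ι → Prop} (hs : ∀ i ∈ D, p i)
    (hadd : ∀ i j k, i ∈ posOf P D → j ∈ posOf P D → p i → p j →
      P.root k = P.root i + P.root j → p k)
    {k : ι} (hk : k ∈ posOf P D) : p k := by
  obtain ⟨f, -, hf⟩ := Simple.exists_fun hD
  induction h : (f (P.root k)).toNat using Nat.strong_induction_on generalizing k with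
  | _ n ih =>
    by_cases hkD : k ∈ D
    · exact hs k hkD
    · rw [Simple.mem_iff hD hk, not_not] at hkD
      obtain ⟨i, j, hi, hj, he⟩ := hkD
      have h₁ := (hf i).mp hi
      have h₂ := (hf j).mp hj
      have h₃ : f (P.root k) = f (P.root i) + f (P.root j) := by rw [he, map_add]
      exact hadd i j k hi hj (ih _ (by omega) hi rfl) (ih _ (by omega) hj rfl) he

lemma Simple.indiv (hD : IsSimpleSys P D) {i : ι} (hi : i ∈ D) : IsIndiv P i := by
  intro j hj
  obtain ⟨f, -, hf⟩ := Simple.exists_fun hD
  have hfi := (hf i).mp (Simple.pos_of_mem hi)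
  rw [← hj, map_zsmul, smul_eq_mul] at hfi
  exact (Simple.mem_iff hD (Simple.pos_of_mem hi)).mp hi
    ⟨j, j, (hf j).mpr (by omega), (hf j).mpr (by omega), by rw [← hj, two_smul]⟩

lemma Simple.pairing_nonpos (hD : IsSimpleSys P D) {i j : ι} (hi : i ∈ D) (hj : j ∈ D)
    (hij : i ≠ j) : P.pairing i j ≤ 0 := by
  obtain ⟨f, hne, hf⟩ := Simple.exists_fun hD
  have hb := Simple.eq_baseOf hD fun i hi => (hf i).mp (Simple.pos_of_mem hi)
  have := P.baseOf_pairwise_pairing_le_zero f hne (hb ▸ hi) (hb ▸ hj) hij
  simpa [pairingIn_eq] using this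

/-- A simple reflection permutes the positive roots not proportional to it. -/
lemma Simple.step (hD : IsSimpleSys P D) {i k : ι} (hi : i ∈ D) (hk : k ∈ posOf P D)
    (h : P.reflectionPerm i k ∉ posOf P D) :
    k = i ∨ P.root k = (2 : ℤ) • P.root i := by
  classical
  have h' : neg P (P.reflectionPerm i k) ∈ posOf P D := (Simple.neg_iff hD _).mpr h
  obtain ⟨c, ⟨hc, hc'⟩, hcx⟩ := (natSpan_iff P).mp hk
  obtain ⟨d, ⟨hd, hd'⟩, hdx⟩ := (natSpan_iff P).mp h'
  have hsingle : ∀ z : ℤ, ↑(Finsupp.single i z).support ⊆ D := fun z j hj => by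
    have := Finsupp.support_single_subset hj
    simp only [Finset.mem_singleton] at this
    exact this ▸ hi
  have heq : c + d = Finsupp.single i (P.pairing k i) := coeff_unique P hD.linInd
    (fun j hj => (Finset.mem_union.mp (Finsupp.support_add hj)).elim
      (fun h => hc h) fun h => hd h)
    (hsingle _)
    (by rw [map_add, hcx, hdx, root_neg, root_reflectionPerm', Finsupp.linearCombination_single]
        abel)
  have hc1 : c = Finsupp.single i (c i) := Finsupp.ext fun l => by
    by_cases hl : l = i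
    · simp [hl]
    · have := DFunLike.congr_fun heq l
      simp only [Finsupp.add_apply, Finsupp.single_eq_of_ne hl] at this
      have := hc' l; have := hd' l
      rw [Finsupp.single_eq_of_ne hl]; omega
  have hk' : P.root k = c i • P.root i := by
    rw [← hcx, hc1, Finsupp.linearCombination_single, Finsupp.single_eq_same]
  have := hc' i
  rcases nsmul_root_eq P hk' with e | e | e | e
  · exact Or.inl (P.root.injective (by rw [hk', e, one_smul]))
  · omega
  · exact Or.inr (by rw [hk', e])
  · omega

lemma Simple.reflectionPerm_pos (hD : IsSimpleSys P D) {i k : ι} (hi : i ∈ D)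
    (hk : k ∈ posOf P D) (hkI : IsIndiv P k) (hne : k ≠ i) :
    P.reflectionPerm i k ∈ posOf P D := by
  by_contra h
  rcases Simple.step hD hi hk h with e | e
  · exact hne e
  · exact hkI i e.symm

lemma Simple.walls (hD : IsSimpleSys P D) : Walls P D (posOf P D) {k | IsIndiv P k} where
  pos _ hi := Simple.pos_of_mem hi
  good _ hi := Simple.indiv hD hi
  neg_iff := Simple.neg_iff hD
  stable i _ _ hk := indiv_smul P (Equiv.reflection P i) hk
  step _ hi _ hk hkI hne := Simple.reflectionPerm_pos hD hi hk hkI hne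

/-- A positive root pairs positively with some simple coroot. -/
lemma Simple.exists_pairing_pos (hD : IsSimpleSys P D) {k : ι} (hk : k ∈ posOf P D) :
    ∃ i ∈ D, 0 < P.pairing k i := by
  let := Fintype.ofFinite ι
  by_contra! h
  have hle : ∀ x ∈ natSpan P D, P.RootForm (P.root k) x ≤ 0 := fun x hx => by
    have := natSpan_nonneg P (S := D) (-(P.RootForm (P.root k)).toAddMonoidHom) (fun i hi => ?_) hx
    · simpa using this
    · have h1 := pairing_mul_form P k i
      rw [form_comm P (P.root i) (P.root k)] at h1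
      have := form_root_pos P i
      have := h i hi
      simp only [AddMonoidHom.neg_apply, LinearMap.toAddMonoidHom_coe]
      nlinarith
  have := hle _ hk
  have := form_root_pos P k
  omega

/-- An indivisible positive nonsimple root can be lowered by a simple reflection. -/
lemma Simple.exists_descent (hD : IsSimpleSys P D) {k : ι} (hk : k ∈ posOf P D) (hkD : k ∉ D)
    (hkI : IsIndiv P k) :
    ∃ i ∈ D, 0 < P.pairing k i ∧ P.reflectionPerm i k ∈ posOf P D := by
  obtain ⟨i, hi, hp⟩ := Simple.exists_pairing_pos hD hk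
  exact ⟨i, hi, hp, Simple.reflectionPerm_pos hD hi hk hkI fun e => hkD (e ▸ hi)⟩

/-- Every indivisible root is conjugate to a simple root. -/
lemma Simple.exists_conj (hD : IsSimpleSys P D) {k : ι} (hkI : IsIndiv P k) :
    ∃ g ∈ reflClosure P D, ∃ i ∈ D, g • i = k := by
  obtain ⟨f, -, hf⟩ := Simple.exists_fun hD
  have pos : ∀ k, k ∈ posOf P D → IsIndiv P k →
      ∃ g ∈ reflClosure P D, ∃ i ∈ D, g • i = k := by
    intro k hk hkI
    induction h : (f (P.root k)).toNat using Nat.strong_induction_on generalizing k with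
    | _ n ih =>
      by_cases hkD : k ∈ D
      · exact ⟨1, one_mem _, k, hkD, one_smul _ k⟩
      · obtain ⟨i, hi, hp, hpos⟩ := Simple.exists_descent hD hk hkD hkI
        have h₁ := (hf i).mp (Simple.pos_of_mem hi)
        have h₂ := (hf _).mp hpos
        have h₃ : f (P.root (P.reflectionPerm i k)) < f (P.root k) := by
          rw [root_reflectionPerm', map_sub, map_zsmul, smul_eq_mul]
          nlinarith
        obtain ⟨g, hg, j, hj, hgj⟩ := ih _ (by omega) (P.reflectionPerm i k) hpos
          (indiv_smul P (Equiv.reflection P i) hkI) rfl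
        refine ⟨Equiv.reflection P i * g, mul_mem (mem_reflClosure P hi) hg, j, hj, ?_⟩
        rw [mul_smul, hgj, refl_smul_idx, P.reflectionPerm_self]
  rcases Simple.pos_cover hD k with h | h
  · exact pos k h hkI
  · obtain ⟨g, hg, i, hi, hgi⟩ := pos _ h (indiv_neg P hkI)
    refine ⟨g * Equiv.reflection P i, mul_mem hg (mem_reflClosure P hi), i, hi, ?_⟩
    rw [mul_smul, refl_smul_idx]
    show g • neg P i = k
    rw [smul_neg_idx, hgi, neg_neg]

lemma closure_indiv : reflClosure P {i : ι | IsIndiv P i} = P.weylGroup := by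
  refine le_antisymm (reflClosure_le P _) ((Subgroup.closure_le _).mpr ?_)
  rintro _ ⟨k, rfl⟩
  obtain ⟨j, hj, e⟩ := exists_indiv P k
  rcases e with rfl | e
  · exact mem_reflClosure P hj
  · rw [refl_eq_of_smul P (i := k) (j := j) one_ne_zero (by rw [one_smul, e])]
    exact mem_reflClosure P hj

/-- The simple reflections generate the Weyl group. -/
lemma Simple.closure_eq (hD : IsSimpleSys P D) : reflClosure P D = P.weylGroup := by
  refine le_antisymm (reflClosure_le P _) ?_
  rw [← closure_indiv]
  refine (Subgroup.closure_le _).mpr ?_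
  rintro _ ⟨k, hk, rfl⟩
  obtain ⟨g, hg, i, hi, rfl⟩ := Simple.exists_conj hD hk
  simp only [← conj_reflection P g i]
  exact mul_mem (mul_mem hg (mem_reflClosure P hi)) (inv_mem hg)

lemma Simple.mem_closure (hD : IsSimpleSys P D) {g : P.Aut} (hg : g ∈ P.weylGroup) :
    g ∈ reflClosure P D := by rwa [Simple.closure_eq hD]

lemma Simple.eq_one (hD : IsSimpleSys P D) {g : P.Aut} (hg : g ∈ P.weylGroup)
    (h : ∀ i ∈ D, g • i ∈ posOf P D) : g = 1 :=
  (Simple.walls hD).eq_one (Simple.mem_closure hD hg) h

omit [Finite ι] in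
lemma natSpan_smul (g : P.Aut) {S : Set ι} {x : M} (hx : x ∈ natSpan P S) :
    g • x ∈ natSpan P ((fun i => g • i) '' S) := by
  induction hx using AddSubmonoid.closure_induction with
  | mem x hx =>
    obtain ⟨i, hi, rfl⟩ := hx
    exact AddSubmonoid.subset_closure ⟨g • i, mem_image_of_mem _ hi, smul_root P g i⟩
  | zero => rw [smul_zero]; exact zero_mem _
  | add x y _ _ hx hy => rw [smul_add]; exact add_mem hx hy

omit [Finite ι] in
lemma posSys_smul (g : P.Aut) {S : Set ι} (hS : IsPosSys P S) :
    IsPosSys P ((fun i => g • i) '' S) where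
  disjoint := by
    rintro _ ⟨i, hi, rfl⟩ ⟨j, hj, he⟩
    rw [show P.reflectionPerm (g • i) (g • i) = g • neg P i from (smul_neg_idx P g i).symm] at he
    have e : j = neg P i := MulAction.injective g he
    subst e
    exact hS.disjoint hi hj
  cover i := by
    refine (hS.cover (g⁻¹ • i)).imp (fun h => ⟨_, h, smul_inv_smul g i⟩) fun h => ⟨_, h, ?_⟩
    show g • neg P (g⁻¹ • i) = _
    rw [smul_neg_idx, smul_inv_smul]
  sat k n hn hk := by
    refine ⟨g⁻¹ • k, hS.sat n hn ?_, smul_inv_smul g k⟩
    have := natSpan_smul g⁻¹ hk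
    rw [smul_comm g⁻¹ n, ← smul_root, ← image_comp] at this
    simpa [Function.comp_def] using this

lemma simple_smul (g : P.Aut) (hD : IsSimpleSys P D) :
    IsSimpleSys P ((fun i => g • i) '' D) := by
  have hpos : ∀ k, k ∈ posOf P ((fun i => g • i) '' D) ↔ g⁻¹ • k ∈ posOf P D := fun k => by
    constructor <;> intro h
    · have := natSpan_smul g⁻¹ h
      rw [← smul_root, ← image_comp] at this
      simpa [Function.comp_def, posOf] using this
    · have := natSpan_smul g h
      rwa [← smul_root, smul_inv_smul] at this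
  refine ⟨?_, fun k => ?_⟩
  · rw [LinearIndepOn, ← linearIndependent_equiv (Equiv.Set.image _ D (MulAction.injective g))]
    rw [linearIndependent_iff]
    intro l hl
    apply linearIndependent_iff.mp hD.linInd l
    apply MulAction.injective g
    show g • _ = g • (0 : M)
    rw [smul_zero, ← hl]
    simp only [Finsupp.linearCombination_apply, Finsupp.sum, Finset.smul_sum, Function.comp_apply,
      Equiv.Set.image_apply]
    exact Finset.sum_congr rfl fun x _ => by rw [smul_comm, ← smul_root]
  · refine (Simple.pos_cover hD (g⁻¹ • k)).imp (fun h => (hpos k).mpr h) fun h => ?_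
    rw [← root_neg]
    exact (hpos _).mpr (by rwa [smul_neg_idx])

end Groth.Agent.RootDat
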