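import Groth.Agent.RootDat.Simple

/-!
Root pairings over `ℤ`: transitivity of the Weyl group on positive systems, finiteness, parabolic
sets of roots.
-/

set_option autoImplicit false

namespace Groth.Agent.RootDat

open RootPairing RootD Set Function

variable {ι M N : Type*} [AddCommGroup M] [AddCommGroup N] {P : RootPairing ι ℤ M N}

omit [AddCommGroup N] in
lemma smul_mem_span_root [AddCommGroup N] {P : RootPairing ι ℤ M N} (g : P.Aut) {x : M}
    (hx : x ∈ Submodule.span ℤ (range P.root)) : g • x ∈ Submodule.span ℤ (range P.root) := by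
  induction hx using Submodule.span_induction with
  | mem x hx =>
    obtain ⟨i, rfl⟩ := hx
    rw [← smul_root]
    exact Submodule.subset_span (mem_range_self _)
  | zero => rw [smul_zero]; exact zero_mem _
  | add x y _ _ hx hy => rw [smul_add]; exact add_mem hx hy
  | smul a x _ hx => rw [smul_comm]; exact Submodule.smul_mem _ a hx

lemma weyl_sub_mem (g : P.Aut) (hg : g ∈ P.weylGroup) (m : M) :
    g • m - m ∈ Submodule.span ℤ (range P.root) := by
  induction hg using weylGroup.induction generalizing m with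
  | mem i =>
    rw [reflection_apply', sub_sub_cancel_left]
    exact neg_mem (Submodule.smul_mem _ _ (root_mem_span P i))
  | one => simp
  | mul x y _ _ hx hy =>
    rw [mul_smul, show x • y • m - m = x • (y • m - m) + (x • m - m) by rw [smul_sub]; abel]
    exact add_mem (smul_mem_span_root x (hy m)) (hx m)

variable [Finite ι]

/-- An automorphism moving weights only along the roots and fixing all roots is trivial. -/
lemma aut_eq_one (u : P.Aut)
    (hs : ∀ m : M, ∃ n : ℕ, 0 < n ∧ n • (u • m - m) ∈ Submodule.span ℤ (range P.root))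
    (hfix : ∀ i : ι, u • i = i) : u = 1 := by
  refine aut_ext P fun m => ?_
  rw [one_smul, ← sub_eq_zero]
  obtain ⟨n, hn, h⟩ := hs m
  refine eq_zero_of_nsmul_mem P hn h fun i => ?_
  have h1 := coroot'_smul P u i m
  rw [hfix i] at h1
  rw [map_sub, h1, sub_self]

lemma weyl_eq_of_smul_eq {g g' : P.Aut} (hg : g ∈ P.weylGroup) (hg' : g' ∈ P.weylGroup)
    (h : ∀ i : ι, g • i = g' • i) : g = g' := by
  have := aut_eq_one (g⁻¹ * g')
    (fun m => ⟨1, one_pos, by simpa using weyl_sub_mem _ (mul_mem (inv_mem hg) hg') m⟩)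
    (fun i => by rw [mul_smul, ← h i, inv_smul_smul])
  rwa [inv_mul_eq_one] at this

variable (P) in
lemma weylGroupToPerm_injective : Injective P.weylGroupToPerm := fun a b h =>
  Subtype.ext (weyl_eq_of_smul_eq a.2 b.2 fun i => congr_arg (fun e : ι ≃ ι => e i) h)

variable (P) in
lemma finite_weylGroup : Finite P.weylGroup :=
  Finite.of_injective _ (weylGroupToPerm_injective P)

variable {D : Set ι}

/-- A positive system can be moved into a covering closed set of roots. -/
lemma exists_smul_subset {S : Set ι} (hS : IsPosSys P S) (P' : Set ι)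
    (hcov : ∀ i : ι, i ∈ P' ∨ neg P i ∈ P') (hcl : IsClosedSub P P') :
    ∃ g : P.Aut, g ∈ P.weylGroup ∧ (fun i : ι => g • i) '' S ⊆ P' := by
  classical
  let Q : Set P.Aut := P.weylGroup
  have hQ : Q.Nonempty := ⟨1, one_mem _⟩
  let m : P.Aut → ℕ := fun g => ((fun i : ι => g • i) '' S \ P').ncard
  obtain ⟨g, hg, hmin⟩ : ∃ g ∈ Q, ∀ g' ∈ Q, m g ≤ m g' :=
    ⟨_, Function.argminOn_mem m Q hQ, fun g' hg' => Function.argminOn_le m Q hg'⟩
  refine ⟨g, hg, ?_⟩
  set T := (fun i : ι => g • i) '' S with hT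
  have hTpos : IsPosSys P T := posSys_smul g hS
  obtain ⟨E, ⟨hE, hET⟩, -⟩ := existsUnique_simple hTpos
  have hTE : T = posOf P E := (Simple.subset_iff hE hTpos).mp hET
  by_cases hEP : E ⊆ P'
  · rw [hTE]
    exact fun k hk => Simple.induction hE (fun i hi => hEP hi)
      (fun i j k _ _ hi hj he => hcl hi hj he) hk
  exfalso
  obtain ⟨i, hiE, hiP⟩ := not_subset.mp hEP
  have hni : neg P i ∈ P' := (hcov i).resolve_left hiP
  have hg' : Equiv.reflection P i * g ∈ Q := mul_mem (P.reflection_mem_weylGroup i) hg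
  refine absurd (hmin _ hg') (not_le_of_gt (Set.ncard_lt_ncard ?_ (toFinite _)))
  have hmem : ∀ k, k ∈ (fun j : ι => (Equiv.reflection P i * g) • j) '' S ↔
      P.reflectionPerm i k ∈ T := fun k => by
    constructor
    · rintro ⟨j, hj, rfl⟩
      exact ⟨j, hj, by simp only [mul_smul, refl_smul_idx, P.reflectionPerm_self]⟩
    · rintro ⟨j, hj, he⟩
      exact ⟨j, hj, by simp only at he ⊢; rw [mul_smul, he, refl_smul_idx, P.reflectionPerm_self]⟩
  refine ⟨fun k ⟨hk, hkP⟩ => ⟨?_, hkP⟩, fun h => ?_⟩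
  · rw [hmem] at hk
    show k ∈ T
    rw [hTE] at hk ⊢
    by_contra hkT
    have := Simple.step hE hiE hk (by rwa [P.reflectionPerm_self])
    rcases this with e | e
    · exact hkP (by rw [← P.reflectionPerm_self i k, e]; exact hni)
    · -- `k = -2 i`, which is the sum of `-i` with itself
      refine hkP (hcl hni hni ?_)
      have hk' : P.root k = P.root (P.reflectionPerm i (P.reflectionPerm i k)) := by
        rw [P.reflectionPerm_self]
      rw [hk', root_reflectionPerm', ← coroot'_root, e, map_smul, coroot'_root, pairing_same,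
        root_neg, smul_eq_mul]
      module
  · have := (h ⟨hET hiE, hiP⟩).1
    rw [hmem] at this
    exact hTpos.disjoint (hET hiE) this

/-- The Weyl group is transitive on positive systems. -/
lemma exists_smul_eq {S S' : Set ι} (hS : IsPosSys P S) (hS' : IsPosSys P S') :
    ∃ g : P.Aut, g ∈ P.weylGroup ∧ (fun i : ι => g • i) '' S = S' := by
  obtain ⟨g, hg, hsub⟩ := exists_smul_subset hS S' hS'.cover (posSys_closed P hS')
  refine ⟨g, hg, subset_antisymm hsub fun k hk => ?_⟩
  exact ((posSys_smul g hS).cover k).resolve_right fun h => hS'.disjoint hk (hsub h)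

omit [Finite ι] in
lemma posOf_smul (g : P.Aut) (E : Set ι) :
    posOf P ((fun i => g • i) '' E) = (fun i => g • i) '' posOf P E := by
  ext k
  constructor
  · intro h
    refine ⟨g⁻¹ • k, ?_, smul_inv_smul g k⟩
    have := natSpan_smul g⁻¹ (show P.root k ∈ natSpan P ((fun i => g • i) '' E) from h)
    rw [← smul_root, ← image_comp] at this
    simpa [Function.comp_def, posOf] using this
  · rintro ⟨j, hj, rfl⟩
    show P.root (g • j) ∈ natSpan P _
    rw [smul_root]
    exact natSpan_smul g hj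

lemma exists_smul_simple {D' : Set ι} (hD : IsSimpleSys P D) (hD' : IsSimpleSys P D') :
    ∃ g : P.Aut, g ∈ P.weylGroup ∧ (fun i : ι => g • i) '' D = D' := by
  obtain ⟨g, hg, h⟩ := exists_smul_eq (Simple.posOf_isPosSys hD) (Simple.posOf_isPosSys hD')
  exact ⟨g, hg, Simple.eq_of_posOf_eq (simple_smul g hD) hD' (by rw [posOf_smul, h])⟩

lemma existsUnique_smul_simple {D' : Set ι} (hD : IsSimpleSys P D) (hD' : IsSimpleSys P D') :
    ∃! g : P.weylGroup, (fun i : ι => (g : P.Aut) • i) '' D = D' := by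
  obtain ⟨g, hg, h⟩ := exists_smul_simple hD hD'
  refine ⟨⟨g, hg⟩, h, fun ⟨g', hg'⟩ h' => Subtype.ext ?_⟩
  have : g⁻¹ * g' = 1 := Simple.eq_one hD (mul_mem (inv_mem hg) hg') fun i hi => by
    have : g' • i ∈ (fun j => g • j) '' D := h ▸ h' ▸ mem_image_of_mem _ hi
    obtain ⟨j, hj, e⟩ := this
    rw [mul_smul, ← show g • j = g' • i from e, inv_smul_smul]
    exact Simple.pos_of_mem hj
  exact (inv_mul_eq_one.mp this).symm

lemma exists_simple_sys (P : RootPairing ι ℤ M N) : ∃ D, IsSimpleSys P D := by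
  obtain ⟨f, hf⟩ := exists_regular P
  exact ⟨_, isSimpleSys_baseOf hf⟩

omit [Finite ι] in
lemma natSpan_eq_span_nat (D : Set ι) :
    natSpan P D = (Submodule.span ℕ (P.root '' D)).toAddSubmonoid :=
  (Submodule.span_nat_eq_addSubmonoidClosure _).symm

/-- The roots whose opposites lie in a closed set containing a positive system. -/
lemma parabolic_eq {S : Set ι} (hS : IsPosSys P S) {D : Set ι} (hD : IsSimpleSys P D) (hDS : D ⊆ S)
    (P' : Set ι) (hcl : IsClosedSub P P') (hSP : S ⊆ P') :
    P' = S ∪ {k : ι | -P.root k ∈ natSpan P {i : ι | i ∈ D ∧ neg P i ∈ P'}} := by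
  obtain rfl := (Simple.subset_iff hD hS).mp hDS
  set D₀ : Set ι := {i : ι | i ∈ D ∧ neg P i ∈ P'}
  -- both inclusions, stated on positive roots
  have key : ∀ b ∈ posOf P D, (neg P b ∈ P' → P.root b ∈ natSpan P D₀) ∧
      (P.root b ∈ natSpan P D₀ → neg P b ∈ P') := by
    intro b hb
    refine Simple.induction (p := fun b => (neg P b ∈ P' → P.root b ∈ natSpan P D₀) ∧ (P.root b ∈ natSpan P D₀ → neg P b ∈ P')) hD ?_ ?_ hb
    · intro i hi
      refine ⟨fun h => AddSubmonoid.subset_closure ⟨i, ⟨hi, h⟩, rfl⟩, fun h => ?_⟩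
      classical
      obtain ⟨c, ⟨hc, hc'⟩, hcx⟩ := (natSpan_iff P).mp h
      have := coeff_unique P hD.linInd (c := c) (d := Finsupp.single i 1) (fun j hj => (hc hj).1)
        (fun j hj => by
          have := Finsupp.support_single_subset hj
          simp only [Finset.mem_singleton] at this
          exact this ▸ hi)
        (by simp [hcx])
      have hci : c i = 1 := by rw [this]; simp
      exact (hc (Finsupp.mem_support_iff.mpr (by omega))).2
    · intro a b k ha hb iha ihb he
      refine ⟨fun h => ?_, fun h => ?_⟩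
      · rw [he]
        refine add_mem (iha.1 (hcl h (hSP hb) ?_)) (ihb.1 (hcl h (hSP ha) ?_))
        · rw [root_neg, root_neg, he]; abel
        · rw [root_neg, root_neg, he]; abel
      · classical
        -- the coefficients of `a` and `b` outside `D₀` vanish
        obtain ⟨c, ⟨hc, hc'⟩, hcx⟩ := (natSpan_iff P).mp ha
        obtain ⟨d, ⟨hd, hd'⟩, hdx⟩ := (natSpan_iff P).mp hb
        obtain ⟨e, ⟨he', he''⟩, hex⟩ := (natSpan_iff P).mp h
        have heq : c + d = e := coeff_unique P hD.linInd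
          (fun j hj => (Finset.mem_union.mp (Finsupp.support_add hj)).elim
            (fun h => hc h) fun h => hd h)
          (fun j hj => (he' hj).1) (by rw [map_add, hcx, hdx, hex, he])
        have hz : ∀ j, j ∉ D₀ → c j = 0 ∧ d j = 0 := fun j hj => by
          have h0 : e j = 0 := Finsupp.notMem_support_iff.mp fun h => hj (he' h)
          have := DFunLike.congr_fun heq j
          simp only [Finsupp.add_apply] at this
          have := hc' j; have := hd' j
          omega
        refine hcl (iha.2 ((natSpan_iff P).mpr ⟨c, ⟨fun j hj => ?_, hc'⟩, hcx⟩))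
          (ihb.2 ((natSpan_iff P).mpr ⟨d, ⟨fun j hj => ?_, hd'⟩, hdx⟩))
          (by rw [root_neg, root_neg, root_neg, he, neg_add])
        · exact by_contra fun h => Finsupp.mem_support_iff.mp hj (hz j h).1
        · exact by_contra fun h => Finsupp.mem_support_iff.mp hj (hz j h).2
  ext k
  simp only [mem_union, mem_ofPred_eq]
  constructor
  · intro hk
    by_cases hkpos : k ∈ posOf P D
    · exact Or.inl hkpos
    · right
      have := (key _ ((Simple.neg_iff hD k).mpr hkpos)).1 (by rwa [neg_neg])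
      rwa [root_neg] at this
  · rintro (hk | hk)
    · exact hSP hk
    · by_cases hkpos : k ∈ posOf P D
      · exact hSP hkpos
      · rw [← root_neg] at hk
        have := (key _ ((Simple.neg_iff hD k).mpr hkpos)).2 hk
        rwa [neg_neg] at this

/-- Saturated sets of roots are spanned by part of a simple system. -/
lemma exists_simple_extend (R' : Set ι)
    (hsat : ∀ k : ι, (∃ n : ℕ, 0 < n ∧ n • P.root k ∈ Submodule.span ℤ (P.root '' R')) → k ∈ R')
    (f : M →+ ℤ) (hf : ∀ i, f (P.root i) ≠ 0) :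
    ∃ E : Set ι, IsSimpleSys P E ∧ R' = inSpan P (E ∩ R') ∧
      (∀ k ∈ R', 0 < f (P.root k) → P.root k ∈ natSpan P (E ∩ R')) ∧
      (∀ i ∈ R', i ∈ E ↔ 0 < f (P.root i) ∧ ¬ ∃ a b, a ∈ R' ∧ b ∈ R' ∧ 0 < f (P.root a) ∧
        0 < f (P.root b) ∧ P.root i = P.root a + P.root b) := by
  obtain ⟨g, hg⟩ := exists_fun_zero_iff P R' hsat
  obtain ⟨h, hh⟩ := exists_lex P g f
  have hne : ∀ i, h (P.root i) ≠ 0 := fun i e => hf i ((hh i).2.mp e).2
  set E := IsAddIndecomposable.baseOf P.root h
  have hE : IsSimpleSys P E := isSimpleSys_baseOf hne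
  have hgE : ∀ i ∈ E, 0 ≤ g (P.root i) := fun i hi => by
    rcases (hh i).1.mp (mem_baseOf.mp hi).1 with h | h <;> omega
  have hpos : ∀ k, k ∈ posOf P E ↔ 0 < h (P.root k) :=
    fun k => Simple.pos_iff hE (fun i hi => (mem_baseOf.mp hi).1) k
  have hR : ∀ k ∈ R', 0 < f (P.root k) → P.root k ∈ natSpan P (E ∩ R') := by
    intro k hk hfk
    have hkE : k ∈ posOf P E := (hpos k).mpr ((hh k).1.mpr (Or.inr ⟨(hg k).mpr hk, hfk⟩))
    obtain ⟨c, ⟨hc, hc'⟩, hcx⟩ := (natSpan_iff P).mp hkE
    refine (natSpan_iff P).mpr ⟨c, ⟨fun j hj => ⟨hc hj, (hg j).mp ?_⟩, hc'⟩, hcx⟩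
    have hsum : ∑ x ∈ c.support, c x * g (P.root x) = 0 := by
      rw [← (hg k).mpr hk, ← hcx, Finsupp.linearCombination_apply, Finsupp.sum, map_sum]
      exact Finset.sum_congr rfl fun x _ => by rw [map_zsmul, smul_eq_mul]
    have := (Finset.sum_eq_zero_iff_of_nonneg fun x hx =>
      mul_nonneg (hc' x) (hgE x (hc hx))).mp hsum j hj
    exact (mul_eq_zero.mp this).resolve_left (Finsupp.mem_support_iff.mp hj)
  have hspan : R' = inSpan P (E ∩ R') := by
    refine subset_antisymm (fun k hk => ?_) fun k hk => ?_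
    · rcases lt_or_gt_of_ne (hf k) with h | h
      · have hnk : neg P k ∈ R' := (hg _).mp (by rw [root_neg, map_neg, (hg k).mpr hk, neg_zero])
        have := natSpan_le_span P _ (hR _ hnk (by rw [root_neg, map_neg]; omega))
        rw [root_neg] at this
        exact neg_mem_iff.mp this
      · exact natSpan_le_span P _ (hR k hk h)
    · refine (hg k).mp ?_
      have hle : Submodule.span ℤ (P.root '' (E ∩ R')) ≤ LinearMap.ker g.toIntLinearMap :=
        Submodule.span_le.mpr (by rintro _ ⟨i, hi, rfl⟩; exact (hg i).mpr hi.2)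
      exact LinearMap.mem_ker.mp (hle hk)
  refine ⟨E, hE, hspan, hR, fun i hi => ?_⟩
  have hgi : g (P.root i) = 0 := (hg i).mpr hi
  constructor
  · intro hiE
    obtain ⟨h₁, h₂⟩ := mem_baseOf.mp hiE
    refine ⟨?_, fun ⟨a, b, ha, hb, hfa, hfb, he⟩ => h₂ ⟨a, b, ?_, ?_, he⟩⟩
    · rcases (hh i).1.mp h₁ with h | h <;> omega
    · exact (hh a).1.mpr (Or.inr ⟨(hg a).mpr ha, hfa⟩)
    · exact (hh b).1.mpr (Or.inr ⟨(hg b).mpr hb, hfb⟩)
  · rintro ⟨hfi, hno⟩
    refine mem_baseOf.mpr ⟨(hh i).1.mpr (Or.inr ⟨hgi, hfi⟩), fun ⟨a, b, ha, hb, he⟩ => hno ?_⟩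
    have h0 : g (P.root a) + g (P.root b) = 0 := by rw [← map_add, ← he, hgi]
    rw [(hh a).1] at ha
    rw [(hh b).1] at hb
    have ha0 : g (P.root a) = 0 := by omega
    have hb0 : g (P.root b) = 0 := by omega
    exact ⟨a, b, (hg a).mp ha0, (hg b).mp hb0, by omega, by omega, he⟩

end Groth.Agent.RootDat
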